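import Cfsg.Agent.Lib.SpOTensor.NoRadCase

/-!
Two conjugate one-parameter groups of square-zero unipotents: if the group they generate has the first of them
as a Sylow subgroup, central in its normaliser, and the field has at least five elements, they are equal.
-/

set_option autoImplicit false
set_option linter.unusedSectionVars false

namespace Cfsg.Agent.Lib.SpFourOThree.Pair

open Module Polynomial
open scoped Pointwise
open Cfsg.Agent.Lib.SpOTensor (commute_aeval exists_pow_eq_one exists_flag_eq_bot flagFix isPGroup_flagFix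
  dvd_pow_of_factors flag)

variable {F V : Type*} [Field F] [AddCommGroup V] [Module F V] (N : Module.End F V) (hN : N * N = 0)

include hN

theorem sq_apply (z : V) : N (N z) = 0 := LinearMap.congr_fun hN z

/-- The unipotent with parameter `l`. -/
def un (l : F) : V ≃ₗ[F] V where
  toFun z := z + l • N z
  map_add' z w := by simp only [map_add, smul_add]; abel
  map_smul' c z := by simp [smul_add, smul_comm l c]
  invFun z := z - l • N z
  left_inv z := by simp [sq_apply N hN]
  right_inv z := by simp [sq_apply N hN]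

@[simp] theorem un_apply (l : F) (z : V) : un N hN l z = z + l • N z := rfl

theorem un_mul (l m : F) : un N hN l * un N hN m = un N hN (l + m) := LinearEquiv.ext fun z => by
  simp [LinearEquiv.mul_apply, sq_apply N hN, add_smul]; abel

theorem un_zero : un N hN (0 : F) = 1 := LinearEquiv.ext fun z => by simp

theorem un_inv (l : F) : (un N hN l)⁻¹ = un N hN (-l) :=
  inv_eq_of_mul_eq_one_right (by rw [un_mul, add_neg_cancel, un_zero])

theorem un_pow (l : F) : ∀ k : ℕ, un N hN l ^ k = un N hN ((k : F) * l)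
  | 0 => by rw [pow_zero, Nat.cast_zero, zero_mul, un_zero]
  | k + 1 => by rw [pow_succ, un_pow l k, un_mul, Nat.cast_succ, add_mul, one_mul]

theorem un_injective (hN0 : N ≠ 0) : Function.Injective (un N hN : F → V ≃ₗ[F] V) := fun l m h => by
  obtain ⟨z, hz⟩ : ∃ z, N z ≠ 0 := by
    by_contra h'
    push Not at h'
    exact hN0 (LinearMap.ext h')
  exact smul_left_injective F hz (by simpa using LinearEquiv.congr_fun h z)

/-- The one-parameter group. -/
def uGrp : Subgroup (V ≃ₗ[F] V) where
  carrier := {g | ∃ l : F, g = un N hN l}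
  one_mem' := ⟨0, (un_zero N hN).symm⟩
  mul_mem' := by rintro _ _ ⟨l, rfl⟩ ⟨m, rfl⟩; exact ⟨l + m, un_mul N hN l m⟩
  inv_mem' := by rintro _ ⟨l, rfl⟩; exact ⟨-l, un_inv N hN l⟩

theorem un_mem (l : F) : un N hN l ∈ uGrp N hN := ⟨l, rfl⟩

theorem isPGroup_uGrp {p : ℕ} [CharP F p] : IsPGroup p (uGrp N hN) := by
  rintro ⟨_, l, rfl⟩
  exact ⟨1, Subtype.ext (by simp [un_pow, un_zero])⟩

variable (g : V ≃ₗ[F] V)

omit hN in
/-- The conjugate nilpotent map. -/
def conjEnd : Module.End F V := g.toLinearMap * N * g.symm.toLinearMap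

omit hN in
theorem conjEnd_apply (z : V) : conjEnd N g z = g (N (g.symm z)) := rfl

theorem conjEnd_sq : conjEnd N g * conjEnd N g = 0 := LinearMap.ext fun z => by
  simp [conjEnd_apply, sq_apply N hN]

omit hN in
/-- The anticommutator. -/
def anti : Module.End F V := N * conjEnd N g + conjEnd N g * N

omit hN in
theorem anti_apply (z : V) : anti N g z = N (conjEnd N g z) + conjEnd N g (N z) := rfl

theorem anti_comm : Commute (anti N g) N := by
  show _ * _ = _ * _
  rw [anti, add_mul, mul_add, mul_assoc (conjEnd N g) N N, hN, mul_zero, add_zero,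
    ← mul_assoc N N (conjEnd N g), hN, zero_mul, zero_add, mul_assoc]

theorem anti_comm' : Commute (anti N g) (conjEnd N g) := by
  show _ * _ = _ * _
  rw [anti, add_mul, mul_add, mul_assoc N (conjEnd N g) (conjEnd N g), conjEnd_sq N hN g, mul_zero, zero_add,
    ← mul_assoc (conjEnd N g) (conjEnd N g) N, conjEnd_sq N hN g, zero_mul, add_zero, mul_assoc]

/-- The group generated by the two one-parameter groups. -/
def join : Subgroup (V ≃ₗ[F] V) := uGrp N hN ⊔ (uGrp N hN).map (MulAut.conj g).toMonoidHom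

theorem uGrp_le_join : uGrp N hN ≤ join N hN g := le_sup_left

theorem conj_mem_join (l : F) : g * un N hN l * g⁻¹ ∈ join N hN g :=
  Subgroup.mem_sup_right ⟨_, un_mem N hN l, rfl⟩

theorem conj_un_apply (l : F) (z : V) : (g * un N hN l * g⁻¹) z = z + l • conjEnd N g z := by
  rw [LinearEquiv.mul_apply, LinearEquiv.mul_apply, un_apply, map_add, map_smul,
    show g (g⁻¹ z) = z from g.apply_symm_apply z]
  rfl

theorem join_le {C : Subgroup (V ≃ₗ[F] V)} (h₁ : ∀ l, un N hN l ∈ C)
    (h₂ : ∀ l, g * un N hN l * g⁻¹ ∈ C) : join N hN g ≤ C := by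
  refine sup_le ?_ ?_
  · rintro _ ⟨l, rfl⟩; exact h₁ l
  · rintro _ ⟨_, ⟨l, rfl⟩, rfl⟩; exact h₂ l

theorem join_fix {h : V ≃ₗ[F] V} (hh : h ∈ join N hN g) {z : V} (h₁ : N z = 0) (h₂ : conjEnd N g z = 0) :
    h z = z := by
  let C : Subgroup (V ≃ₗ[F] V) :=
    { carrier := {h | h z = z}
      one_mem' := rfl
      mul_mem' := fun {a b} (ha : a z = z) (hb : b z = z) => by
        show (a * b) z = z
        rw [LinearEquiv.mul_apply, hb, ha]
      inv_mem' := fun {a} (ha : a z = z) => a.injective (by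
        rw [show a (a⁻¹ z) = z from a.apply_symm_apply z, ha]) }
  refine join_le N hN g (C := C) (fun l => ?_) (fun l => ?_) hh
  · show _ = z; simp [h₁]
  · show _ = z; rw [conj_un_apply, h₂, smul_zero, add_zero]

theorem join_commute_anti {h : V ≃ₗ[F] V} (hh : h ∈ join N hN g) (z : V) :
    anti N g (h z) = h (anti N g z) := by
  let C : Subgroup (V ≃ₗ[F] V) :=
    { carrier := {h | ∀ z, anti N g (h z) = h (anti N g z)}
      one_mem' := fun z => rfl
      mul_mem' := fun {a b} (ha : ∀ z, _) (hb : ∀ z, _) z => by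
        rw [LinearEquiv.mul_apply, LinearEquiv.mul_apply, ha, hb]
      inv_mem' := fun {a} (ha : ∀ z, _) z => a.injective (by
        rw [← ha]
        simp [show ∀ w, a (a⁻¹ w) = w from a.apply_symm_apply]) }
  refine join_le N hN g (C := C) (fun l => ?_) (fun l => ?_) hh z <;> intro z
  · rw [un_apply, un_apply, map_add, map_smul, ← Module.End.mul_apply, (anti_comm N hN g).eq,
      Module.End.mul_apply]
  · rw [conj_un_apply, conj_un_apply, map_add, map_smul, ← Module.End.mul_apply, (anti_comm' N hN g).eq,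
      Module.End.mul_apply]

omit hN in
/-- A generalised eigenspace of the anticommutator. -/
noncomputable def eig (π : F[X]) : Submodule F V := LinearMap.ker (aeval (anti N g) π)

omit hN in
theorem eig_stable_of_commute {T : Module.End F V} (hT : Commute (anti N g) T) {π : F[X]} {w : V}
    (hw : w ∈ eig N g π) : T w ∈ eig N g π := by
  have h := LinearMap.congr_fun (commute_aeval hT.symm π).eq w
  rw [eig, LinearMap.mem_ker] at hw ⊢
  simp only [Module.End.mul_apply, hw, map_zero] at h
  exact h.symm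

theorem eig_stable {π : F[X]} {h : V ≃ₗ[F] V} (hh : h ∈ join N hN g) {w : V} (hw : w ∈ eig N g π) :
    h w ∈ eig N g π :=
  eig_stable_of_commute N g (T := h.toLinearMap)
    (LinearMap.ext fun z => join_commute_anti N hN g hh z) hw

/-- The action on the eigenspace. -/
noncomputable def eigAct (π : F[X]) : join N hN g →* Module.End F (eig N g π) where
  toFun h := h.1.toLinearMap.restrict fun _ hw => eig_stable N hN g h.2 hw
  map_one' := LinearMap.ext fun _ => rfl
  map_mul' _ _ := LinearMap.ext fun _ => rfl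

theorem eigAct_apply (π : F[X]) (h : join N hN g) (w : eig N g π) :
    ((eigAct N hN g π h w : eig N g π) : V) = h.1 (w : V) := rfl

theorem eig_eq_bot {π : F[X]} (hπ0 : π.eval 0 ≠ 0) (hz : ∀ w ∈ eig N g π, N w = 0) : eig N g π = ⊥ := by
  refine (Submodule.eq_bot_iff _).2 fun w hw => ?_
  have h1 : conjEnd N g w ∈ eig N g π := eig_stable_of_commute N g (anti_comm' N hN g) hw
  have hD : anti N g w = (0 : F) • w := by rw [anti_apply, hz _ h1, hz w hw, map_zero, add_zero, zero_smul]
  rw [eig, LinearMap.mem_ker, Module.End.aeval_apply_of_mem_apply_eq_smul hD, smul_eq_zero] at hw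
  exact hw.resolve_left hπ0

/-- The first group in the join. -/
def xJ (l : F) : join N hN g := ⟨un N hN l, uGrp_le_join N hN g (un_mem N hN l)⟩

/-- The second group in the join. -/
def yJ (l : F) : join N hN g := ⟨g * un N hN l * g⁻¹, conj_mem_join N hN g l⟩

theorem yJ_mul (a b : F) : yJ N hN g a * yJ N hN g b = yJ N hN g (a + b) := by
  refine Subtype.ext ?_
  simp only [yJ, Subgroup.coe_mul]
  rw [← un_mul]; group

theorem yJ_zero : yJ N hN g 0 = 1 := Subtype.ext (by simp [yJ, un_zero])

theorem xJ_mul (a b : F) : xJ N hN g a * xJ N hN g b = xJ N hN g (a + b) :=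
  Subtype.ext (un_mul N hN a b)

theorem xJ_zero : xJ N hN g 0 = 1 := Subtype.ext (un_zero N hN)

theorem xy_add (m : F) (z : V) :
    (xJ N hN g 1 * yJ N hN g m).1 z + ((xJ N hN g 1 * yJ N hN g m)⁻¹).1 z = z + z + m • anti N g z := by
  have hinv : (xJ N hN g 1 * yJ N hN g m)⁻¹ = yJ N hN g (-m) * xJ N hN g (-1) := by
    refine inv_eq_of_mul_eq_one_right ?_
    rw [mul_assoc, ← mul_assoc (yJ N hN g m), yJ_mul, add_neg_cancel, yJ_zero, one_mul, xJ_mul,
      add_neg_cancel, xJ_zero]
  rw [hinv]
  simp only [xJ, yJ, Subgroup.coe_mul]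
  show (un N hN (1 : F)) ((g * un N hN m * g⁻¹) z) + (g * un N hN (-m) * g⁻¹) (un N hN (-1 : F) z) = _
  rw [conj_un_apply, un_apply, conj_un_apply, un_apply, anti_apply, map_add, map_smul, map_add, map_smul]
  module

/-- The Sylow subgroup and transfer force the two groups to coincide. -/
theorem conj_mem_of_local [Finite F] [FiniteDimensional F V] [Finite (V ≃ₗ[F] V)] (h5 : 5 ≤ Nat.card F)
    (h2 : (2 : F) ≠ 0) (hN0 : N ≠ 0) {p : ℕ} [CharP F p] [Fact p.Prime]
    (hS : ∀ P ≤ join N hN g, IsPGroup p P → uGrp N hN ≤ P → P ≤ uGrp N hN)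
    (hC : ∀ n ∈ join N hN g, n * un N hN 1 * n⁻¹ ∈ uGrp N hN → ∀ l, Commute n (un N hN l)) :
    g * un N hN 1 * g⁻¹ ∈ uGrp N hN := by
  classical
  by_contra hg
  -- the anticommutator is not nilpotent
  have hnil : ¬ IsNilpotent (anti N g) := fun h => by
    obtain ⟨J, hJ⟩ := exists_flag_eq_bot hN (conjEnd_sq N hN g) h
    have hle : join N hN g ≤ flagFix N (conjEnd N g) := by
      refine join_le N hN g (fun l j x hx => ?_) (fun l j x hx => ?_)
      · rw [un_apply, add_sub_cancel_left]
        exact Submodule.mem_sup_left (Submodule.smul_mem _ _ (Submodule.mem_map_of_mem hx))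
      · rw [conj_un_apply, add_sub_cancel_left]
        exact Submodule.mem_sup_right (Submodule.smul_mem _ _ (Submodule.mem_map_of_mem hx))
    exact hg (hS _ le_rfl ((isPGroup_flagFix hJ).to_le hle) (uGrp_le_join N hN g) (conj_mem_join N hN g 1))
  -- a factor away from zero
  obtain ⟨π, hπ, hπ0, hW⟩ : ∃ π : F[X], Irreducible π ∧ π.eval 0 ≠ 0 ∧ eig N g π ≠ ⊥ := by
    by_contra hno
    push Not at hno
    have hμ0 : minpoly F (anti N g) ≠ 0 := minpoly.ne_zero (Algebra.IsIntegral.isIntegral _)
    obtain ⟨n, hn⟩ := dvd_pow_of_factors (R := (X : F[X])) (fun π hπ hdvd => by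
      by_cases h0 : π.eval 0 = 0
      · rw [← coeff_zero_eq_eval_zero] at h0
        exact (irreducible_X.dvd_symm hπ (X_dvd_iff.2 h0))
      exfalso
      obtain ⟨c, hc⟩ := hdvd
      have hinj : Function.Injective (aeval (anti N g) π) := LinearMap.ker_eq_bot.1 (hno π hπ h0)
      have hzero : aeval (anti N g) c = 0 := LinearMap.ext fun z => hinj (by
        rw [← Module.End.mul_apply, ← map_mul, ← hc, minpoly.aeval]; simp)
      have h1 := minpoly.dvd F (anti N g) hzero
      have hc0 : c ≠ 0 := fun e => hμ0 (by rw [hc, e, mul_zero])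
      have h3 := natDegree_le_of_dvd h1 hc0
      rw [hc, natDegree_mul hπ.ne_zero hc0] at h3
      have := hπ.natDegree_pos
      omega) hμ0
    exact hnil ⟨n, by
      obtain ⟨c, hc⟩ := hn
      have := congrArg (aeval (anti N g)) hc
      rwa [map_pow, aeval_X, map_mul, minpoly.aeval, zero_mul] at this⟩
  -- the transfer
  obtain ⟨P, hP⟩ := ((isPGroup_uGrp N hN (p := p)).comap_of_injective _
    (Subgroup.subtype_injective (join N hN g))).exists_le_sylow
  have hPX : ∀ z ∈ (P : Subgroup (join N hN g)), (z : V ≃ₗ[F] V) ∈ uGrp N hN := fun z hz =>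
    hS ((P : Subgroup (join N hN g)).map (join N hN g).subtype) (Subgroup.map_subtype_le _) (P.2.map _)
      (fun x hx => ⟨⟨x, uGrp_le_join N hN g hx⟩, hP (Subgroup.mem_comap.2 hx), rfl⟩) ⟨z, hz, rfl⟩
  have hNC : Subgroup.normalizer ((P : Subgroup (join N hN g)) : Set (join N hN g)) ≤
      Subgroup.centralizer ((P : Subgroup (join N hN g)) : Set (join N hN g)) := by
    intro n hn
    rw [Subgroup.mem_centralizer_iff]
    intro z hz
    obtain ⟨l, hl⟩ := hPX z hz
    have h1 : xJ N hN g 1 ∈ (P : Subgroup (join N hN g)) := hP (Subgroup.mem_comap.2 (un_mem N hN 1))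
    have h3 := hC n.1 n.2 (hPX _ ((Subgroup.mem_normalizer_iff.1 hn _).1 h1)) l
    refine Subtype.ext ?_
    rw [Subgroup.coe_mul, Subgroup.coe_mul, hl]
    exact h3.eq.symm
  obtain ⟨φ, hφ⟩ : ∃ φ : join N hN g →* (P : Subgroup (join N hN g)), φ = MonoidHom.transferSylow P hNC :=
    ⟨_, rfl⟩
  have hφinj : ∀ z : join N hN g, (∃ k : ℕ, z ^ p ^ k = 1) → φ z = 1 → z = 1 := by
    intro z ⟨k, hk⟩ hz
    have hZp : IsPGroup p (Subgroup.zpowers z) := by
      rintro ⟨_, j, rfl⟩
      refine ⟨k, Subtype.ext ?_⟩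
      rw [SubmonoidClass.coe_pow, OneMemClass.coe_one, ← zpow_natCast (z ^ j), ← zpow_mul, mul_comm, zpow_mul,
        zpow_natCast, hk, one_zpow]
    exact Subgroup.disjoint_def.1 (MonoidHom.ker_transferSylow_disjoint P hNC _ hZp) (hφ ▸ hz)
      (Subgroup.mem_zpowers z)
  have hφp : ∀ z : join N hN g, φ z ^ p = 1 := fun z => by
    obtain ⟨l, hl⟩ := hPX _ (φ z).2
    refine Subtype.ext (Subtype.ext ?_)
    rw [SubmonoidClass.coe_pow, SubmonoidClass.coe_pow, hl, un_pow, CharP.cast_eq_zero, zero_mul, un_zero]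
    rfl
  have hyp : ∀ l : F, ∃ k : ℕ, yJ N hN g l ^ p ^ k = 1 := fun l => ⟨1, Subtype.ext (by
    rw [pow_one, SubmonoidClass.coe_pow, yJ, conj_pow, un_pow, CharP.cast_eq_zero, zero_mul, un_zero]
    simp)⟩
  -- at most one bad parameter
  have hbad : ∀ a b : F, φ (xJ N hN g 1 * yJ N hN g a) = 1 → φ (xJ N hN g 1 * yJ N hN g b) = 1 → a = b := by
    intro a b ha hb
    have h1 : φ (yJ N hN g (a - b)) = 1 := by
      have e : yJ N hN g a = yJ N hN g b * yJ N hN g (a - b) := by rw [yJ_mul, add_sub_cancel]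
      rw [e, ← mul_assoc, map_mul, hb, one_mul] at ha
      exact ha
    have h3 := congrArg Subtype.val (hφinj _ (hyp _) h1)
    simp only [yJ, OneMemClass.coe_one, mul_inv_eq_one, mul_eq_left] at h3
    exact sub_eq_zero.1 (un_injective N hN hN0 (h3.trans (un_zero N hN).symm))
  haveI : Nontrivial (eig N g π) := Submodule.nontrivial_iff_ne_bot.2 hW
  haveI : CharP (Module.End F (eig N g π)) p :=
    charP_of_injective_algebraMap (algebraMap F (Module.End F (eig N g π))).injective p
  -- good parameters give roots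
  have hroot : ∀ m : F, m ≠ 0 → φ (xJ N hN g 1 * yJ N hN g m) ≠ 1 → π.eval (-4 / m) = 0 := by
    intro m hm hgood
    by_contra hne
    obtain ⟨z, hzd⟩ : ∃ z, z = xJ N hN g 1 * yJ N hN g m := ⟨_, rfl⟩
    rw [← hzd] at hgood
    obtain ⟨DW, hDW⟩ : ∃ DW : Module.End F (eig N g π),
        DW = (anti N g).restrict fun _ hw => eig_stable_of_commute N g (Commute.refl _) hw := ⟨_, rfl⟩
    have hDWap : ∀ w : eig N g π, ((DW w : eig N g π) : V) = anti N g (w : V) := fun w => by rw [hDW]; rfl
    obtain ⟨a, ha⟩ : ∃ a, a = eigAct N hN g π z := ⟨_, rfl⟩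
    obtain ⟨b, hb⟩ : ∃ b, b = eigAct N hN g π z⁻¹ := ⟨_, rfl⟩
    have hab : a * b = 1 := by rw [ha, hb, ← map_mul, mul_inv_cancel, map_one]
    have hba : b * a = 1 := by rw [ha, hb, ← map_mul, inv_mul_cancel, map_one]
    have hsum : a + b = aeval DW (C 2 + C m * X) := by
      refine LinearMap.ext fun w => Subtype.ext ?_
      rw [LinearMap.add_apply, Submodule.coe_add, ha, hb, eigAct_apply, eigAct_apply, hzd, xy_add]
      simp [hDWap, Module.algebraMap_end_apply, two_smul]
    have hc0 : Commute a DW := by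
      unfold Commute SemiconjBy
      refine LinearMap.ext fun w => Subtype.ext ?_
      rw [Module.End.mul_apply, Module.End.mul_apply, hDWap, ha, eigAct_apply, eigAct_apply, hDWap]
      exact (join_commute_anti N hN g z.2 _).symm
    have hπDW : aeval DW π = 0 := by
      refine LinearMap.ext fun w => Subtype.ext ?_
      have h : ∀ q : F[X], ((aeval DW q w : eig N g π) : V) = aeval (anti N g) q (w : V) := by
        intro q
        induction q using Polynomial.induction_on' with
        | add p q hp hq => simp [hp, hq]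
        | monomial j c =>
          have : ∀ j : ℕ, (((DW ^ j) w : eig N g π) : V) = (anti N g ^ j) (w : V) := by
            intro j
            induction j with
            | zero => simp
            | succ j ih => rw [pow_succ', pow_succ', Module.End.mul_apply, Module.End.mul_apply, hDWap, ih]
          simp [aeval_monomial, Module.algebraMap_end_apply, this]
      rw [h]
      exact w.2
    obtain ⟨M, hpM, haM⟩ := exists_pow_eq_one (R := Module.End F (eig N g π)) (p := p) hπ hπ0 hm hne
      hab hba hsum hc0 hπDW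
    -- a `p`-power of `z` outside the kernel acts trivially
    obtain ⟨k, hk⟩ : ∃ k : ℕ, k = orderOf (eigAct N hN g π z) := ⟨_, rfl⟩
    have hpk : ¬ p ∣ k := fun h => hpM (h.trans (hk ▸ orderOf_dvd_of_pow_eq_one (ha ▸ haM)))
    have hdvd : p ∣ orderOf z := by
      have h := orderOf_map_dvd φ z
      rwa [orderOf_eq_prime (hφp z) hgood] at h
    obtain ⟨j, hj⟩ := hdvd
    have hkj : k ∣ j := by
      have h := orderOf_map_dvd (eigAct N hN g π) z
      rw [← hk, hj] at h
      exact ((Fact.out (p := p.Prime)).coprime_iff_not_dvd.2 hpk).symm.dvd_of_dvd_mul_left h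
    have hρ : eigAct N hN g π (z ^ j) = 1 := by
      obtain ⟨i, rfl⟩ := hkj
      rw [map_pow, pow_mul, hk, pow_orderOf_eq_one, one_pow]
    have hpos := orderOf_pos z
    have hjpos : 0 < j := Nat.pos_of_ne_zero fun h => by rw [h, mul_zero] at hj; omega
    have hj0 : z ^ j ≠ 1 := fun h1 => by
      have h3 := Nat.le_of_dvd hjpos (orderOf_dvd_of_pow_eq_one h1)
      have := (Fact.out (p := p.Prime)).one_lt
      rw [hj] at h3
      nlinarith
    have hz : (z ^ j) ^ p = 1 := by rw [← pow_mul, mul_comm, ← hj, pow_orderOf_eq_one]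
    have hZp : IsPGroup p (Subgroup.zpowers (z ^ j)) := by
      rintro ⟨_, i, rfl⟩
      refine ⟨1, Subtype.ext ?_⟩
      rw [pow_one, SubmonoidClass.coe_pow, OneMemClass.coe_one, ← zpow_natCast ((z ^ j) ^ i), ← zpow_mul,
        mul_comm, zpow_mul, zpow_natCast, hz, one_zpow]
    obtain ⟨Q, hQ⟩ := hZp.exists_le_sylow
    obtain ⟨h, hh⟩ := MulAction.exists_smul_eq (join N hN g) Q P
    obtain ⟨e, he⟩ := hPX (h * z ^ j * h⁻¹) (by
      rw [← hh, Sylow.coe_subgroup_smul]
      exact Subgroup.smul_mem_pointwise_smul _ (MulAut.conj h) _ (hQ (Subgroup.mem_zpowers _)))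
    have he0 : e ≠ 0 := fun e0 => by
      rw [e0, un_zero] at he
      have h1 : h * z ^ j * h⁻¹ = 1 := Subtype.ext he
      exact hj0 (by simpa [mul_inv_eq_one] using h1)
    refine hW (eig_eq_bot N hN g hπ0 fun w hw => ?_)
    have h1 : eigAct N hN g π (h * z ^ j * h⁻¹) = 1 := by
      rw [map_mul, map_mul, hρ, mul_one, ← map_mul, mul_inv_cancel, map_one]
    have h3 := congrArg (fun f : Module.End F (eig N g π) => ((f ⟨w, hw⟩ : eig N g π) : V)) h1
    simp only [eigAct_apply, Module.End.one_apply, he, un_apply, add_eq_left, smul_eq_zero] at h3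
    exact h3.resolve_left he0
  -- two good parameters
  haveI := Fintype.ofFinite F
  obtain ⟨a, b, ha0, hb0, hab, hga, hgb⟩ : ∃ a b : F, a ≠ 0 ∧ b ≠ 0 ∧ a ≠ b ∧
      φ (xJ N hN g 1 * yJ N hN g a) ≠ 1 ∧ φ (xJ N hN g 1 * yJ N hN g b) ≠ 1 := by
    have hc : 3 ≤ (Finset.univ.erase (0 : F)).card := by
      rw [Finset.card_erase_of_mem (Finset.mem_univ _), Finset.card_univ, ← Nat.card_eq_fintype_card]
      omega
    obtain ⟨x, y, w, hx, hy, hw, hxy, hxw, hyw⟩ := Finset.two_lt_card_iff.1 hc
    simp only [Finset.mem_erase, Finset.mem_univ, and_true] at hx hy hw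
    by_cases h : φ (xJ N hN g 1 * yJ N hN g x) = 1
    · exact ⟨y, w, hy, hw, hyw, fun e => hxy (hbad _ _ h e), fun e => hxw (hbad _ _ h e)⟩
    by_cases h' : φ (xJ N hN g 1 * yJ N hN g y) = 1
    · exact ⟨x, w, hx, hw, hxw, h, fun e => hyw (hbad _ _ h' e)⟩
    exact ⟨x, y, hx, hy, hxy, h, h'⟩
  have h4 : (4 : F) ≠ 0 := by rw [show (4 : F) = 2 * 2 by norm_num]; exact mul_ne_zero h2 h2
  have hd : X - C (-4 / a) ∣ π := dvd_iff_isRoot.2 (hroot a ha0 hga)
  obtain ⟨k, hk⟩ := (irreducible_X_sub_C (-4 / a)).dvd_symm hπ hd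
  have := congrArg (eval (-4 / b)) hk
  rw [eval_sub, eval_X, eval_C, eval_mul, hroot b hb0 hgb, zero_mul, sub_eq_zero, div_eq_div_iff hb0 ha0] at this
  exact hab (mul_left_cancel₀ (neg_ne_zero.2 h4) this)

end Cfsg.Agent.Lib.SpFourOThree.Pair
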