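import Mathlib
import Cfsg.Agent.Lib.SpFourOThree.Transfer

/-!
The tensor product of a symplectic 4-space with an orthogonal 3-space, written on `U × (U × U) × U`.
-/

set_option autoImplicit false
set_option linter.unusedSectionVars false

namespace Cfsg.Agent.Lib.SpFourOThree

open Module

variable {F U : Type*} [Field F] [AddCommGroup U] [Module F U]

/-- The symplectic 4-space. -/
abbrev W4 (F : Type*) := F × (F × F) × F

/-- The tensor product space. -/
abbrev V4 (U : Type*) := U × (U × U) × U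

/-- The symplectic form. -/
def alp (x y : W4 F) : F := x.1 * y.2.2 - x.2.2 * y.1 + (x.2.1.1 * y.2.1.2 - x.2.1.2 * y.2.1.1)

/-- The alternating form on the tensor product. -/
def Om (β : LinearMap.BilinForm F U) (z w : V4 U) : F :=
  β z.1 w.2.2 - β z.2.2 w.1 + (β z.2.1.1 w.2.1.2 - β z.2.1.2 w.2.1.1)

/-- The pure tensors. -/
def ten : W4 F →ₗ[F] U →ₗ[F] V4 U :=
  LinearMap.mk₂ F (fun y u => (y.1 • u, (y.2.1.1 • u, y.2.1.2 • u), y.2.2 • u))
    (fun y y' u => by simp [add_smul]) (fun c y u => by simp [smul_smul])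
    (fun y u u' => by simp [smul_add]) (fun c y u => by simp [smul_comm c])

@[simp] theorem ten_apply (y : W4 F) (u : U) :
    ten y u = ((y.1 • u, (y.2.1.1 • u, y.2.1.2 • u), y.2.2 • u) : V4 U) := rfl

/-- The base point. -/
def x0 : W4 F := (1, (0, 0), 0)

theorem ten_x0 (u : U) : ten (x0 : W4 F) u = ((u, (0, 0), 0) : V4 U) := by simp [x0]

theorem x0_ne : (x0 : W4 F) ≠ 0 := fun h => one_ne_zero (congrArg Prod.fst h)

/-- Coordinates along a functional. -/
def co (φ : U →ₗ[F] F) : V4 U →ₗ[F] W4 F := φ.prodMap ((φ.prodMap φ).prodMap φ)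

@[simp] theorem co_apply (φ : U →ₗ[F] F) (z : V4 U) :
    co φ z = (φ z.1, (φ z.2.1.1, φ z.2.1.2), φ z.2.2) := rfl

theorem co_ten (φ : U →ₗ[F] F) (y : W4 F) (u : U) : co φ (ten y u) = φ u • y := by
  simp [Prod.ext_iff, mul_comm (φ u)]

theorem ten_injective {y : W4 F} (hy : y ≠ 0) : Function.Injective (ten (U := U) y) := by
  refine (injective_iff_map_eq_zero _).2 fun u hu => ?_
  by_contra h
  simp only [ten_apply, Prod.ext_iff, Prod.fst_zero, Prod.snd_zero, smul_eq_zero, h, or_false] at hu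
  exact hy (Prod.ext hu.1 (Prod.ext (Prod.ext hu.2.1.1 hu.2.1.2) hu.2.2))

theorem decomp (z : V4 U) : z = ten ((1, (0, 0), 0) : W4 F) z.1 + ten ((0, (1, 0), 0) : W4 F) z.2.1.1 +
    ten ((0, (0, 1), 0) : W4 F) z.2.1.2 + ten ((0, (0, 0), 1) : W4 F) z.2.2 := by
  simp [Prod.ext_iff]

theorem hom_ext {X : Type*} [AddCommGroup X] [Module F X] {f g : V4 U →ₗ[F] X}
    (h : ∀ (y : W4 F) u, f (ten y u) = g (ten y u)) : f = g := LinearMap.ext fun z => by
  rw [decomp (F := F) z]
  simp only [map_add, h]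

theorem equiv_ext {f g : V4 U ≃ₗ[F] V4 U} (h : ∀ (y : W4 F) u, f (ten y u) = g (ten y u)) : f = g :=
  LinearEquiv.toLinearMap_injective (hom_ext (f := f.toLinearMap) (g := g.toLinearMap) h)

theorem Om_ten (β : LinearMap.BilinForm F U) (x y : W4 F) (u v : U) :
    Om β (ten x u) (ten y v) = alp x y * β u v := by
  simp [Om, alp]; ring

theorem Om_ten_left (β : LinearMap.BilinForm F U) (y : W4 F) (u : U) (z : V4 U) :
    Om β (ten y u) z = alp y (co (β u) z) := by
  simp [Om, alp]

section Forms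

variable (β : LinearMap.BilinForm F U)

theorem Om_add_left (x y z : V4 U) : Om β (x + y) z = Om β x z + Om β y z := by
  simp only [Om, Prod.fst_add, Prod.snd_add, map_add, LinearMap.add_apply]; ring

theorem Om_add_right (x y z : V4 U) : Om β x (y + z) = Om β x y + Om β x z := by
  simp only [Om, Prod.fst_add, Prod.snd_add, map_add]; ring

theorem Om_smul_left (c : F) (x z : V4 U) : Om β (c • x) z = c * Om β x z := by
  simp only [Om, Prod.smul_fst, Prod.smul_snd, map_smul, LinearMap.smul_apply, smul_eq_mul]; ring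

theorem Om_smul_right (c : F) (x z : V4 U) : Om β x (c • z) = c * Om β x z := by
  simp only [Om, Prod.smul_fst, Prod.smul_snd, map_smul, smul_eq_mul]; ring

theorem Om_swap (hs : ∀ u v, β u v = β v u) (x y : V4 U) : Om β y x = -Om β x y := by
  simp only [Om, hs y.1, hs y.2.2, hs y.2.1.1, hs y.2.1.2]; ring

end Forms

theorem alp_add_right (x y z : W4 F) : alp x (y + z) = alp x y + alp x z := by
  simp [alp]; ring

theorem alp_smul_right (c : F) (x y : W4 F) : alp x (c • y) = c * alp x y := by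
  simp [alp]; ring

theorem alp_add_left (x y z : W4 F) : alp (x + y) z = alp x z + alp y z := by
  simp [alp]; ring

theorem alp_smul_left (c : F) (x y : W4 F) : alp (c • x) y = c * alp x y := by
  simp [alp]; ring

theorem alp_swap (x y : W4 F) : alp y x = -alp x y := by simp [alp]; ring

theorem alp_self (x : W4 F) : alp x x = 0 := by simp [alp]; ring

theorem alp_nondeg {x : W4 F} (h : ∀ y, alp x y = 0) : x = 0 := by
  have h1 := h (0, (0, 0), 1)
  have h2 := h (1, (0, 0), 0)
  have h3 := h (0, (0, 1), 0)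
  have h4 := h (0, (1, 0), 0)
  simp [alp] at h1 h2 h3 h4
  exact Prod.ext h1 (Prod.ext (Prod.ext h3 h4) h2)

theorem exists_alp_ne {x : W4 F} (hx : x ≠ 0) : ∃ y, alp x y ≠ 0 := by
  by_contra h
  push Not at h
  exact hx (alp_nondeg h)

theorem exists_alp_ne₂ {x y : W4 F} (hx : x ≠ 0) (hy : y ≠ 0) : ∃ z, alp x z ≠ 0 ∧ alp y z ≠ 0 := by
  obtain ⟨a, ha⟩ := exists_alp_ne hx
  obtain ⟨b, hb⟩ := exists_alp_ne hy
  by_cases h1 : alp y a = 0
  · by_cases h2 : alp x b = 0
    · exact ⟨a + b, by rw [alp_add_right, h2, add_zero]; exact ha, by rw [alp_add_right, h1, zero_add]; exact hb⟩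
    · exact ⟨b, h2, hb⟩
  · exact ⟨a, ha, h1⟩

/-- A symplectic transvection. -/
def tv (y : W4 F) (c : F) : W4 F ≃ₗ[F] W4 F where
  toFun w := w + (c * alp w y) • y
  map_add' v w := by rw [alp_add_left, mul_add, add_smul]; abel
  map_smul' a w := by rw [alp_smul_left, RingHom.id_apply, smul_add, smul_smul]; ring_nf
  invFun w := w - (c * alp w y) • y
  left_inv w := by simp [alp_add_left, alp_smul_left, alp_self]
  right_inv w := by
    simp only [sub_eq_add_neg, ← neg_smul, alp_add_left, alp_smul_left, alp_self, mul_zero, add_zero]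
    rw [neg_smul, neg_add_cancel_right]

@[simp] theorem tv_apply (y : W4 F) (c : F) (w : W4 F) : tv y c w = w + (c * alp w y) • y := rfl

theorem tv_iso (y : W4 F) (c : F) (v w : W4 F) : alp (tv y c v) (tv y c w) = alp v w := by
  simp only [tv_apply, alp_add_left, alp_add_right, alp_smul_left, alp_smul_right, alp_self, alp_swap w y]
  ring

/-- The symplectic group is transitive on non-zero vectors. -/
theorem exists_symp {y : W4 F} (hy : y ≠ 0) :
    ∃ σ : W4 F ≃ₗ[F] W4 F, (∀ v w, alp (σ v) (σ w) = alp v w) ∧ σ x0 = y := by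
  have step : ∀ a b : W4 F, alp a b ≠ 0 → ∃ σ : W4 F ≃ₗ[F] W4 F,
      (∀ v w, alp (σ v) (σ w) = alp v w) ∧ σ a = b := fun a b h => by
    refine ⟨tv (b - a) (alp a b)⁻¹, tv_iso _ _, ?_⟩
    have e : alp a (b - a) = alp a b := by
      rw [sub_eq_add_neg, ← neg_one_smul F a, alp_add_right, alp_smul_right, alp_self]; ring
    rw [tv_apply, e, inv_mul_cancel₀ h, one_smul, add_sub_cancel]
  obtain ⟨z, hz1, hz2⟩ := exists_alp_ne₂ x0_ne hy
  obtain ⟨σ₁, h1, e1⟩ := step x0 z hz1
  obtain ⟨σ₂, h2, e2⟩ := step z y (by rw [alp_swap]; exact neg_ne_zero.2 hz2)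
  exact ⟨σ₁.trans σ₂, fun v w => by simp [h1, h2], by simp [e1, e2]⟩

/-- The tensor product of two maps. -/
def krL (σ : W4 F →ₗ[F] W4 F) (A : U →ₗ[F] U) : V4 U →ₗ[F] V4 U :=
  (ten (σ (1, (0, 0), 0))).comp (A.comp (LinearMap.fst F U _)) +
  (ten (σ (0, (1, 0), 0))).comp (A.comp ((LinearMap.fst F U U).comp ((LinearMap.fst F _ U).comp (LinearMap.snd F U _)))) +
  (ten (σ (0, (0, 1), 0))).comp (A.comp ((LinearMap.snd F U U).comp ((LinearMap.fst F _ U).comp (LinearMap.snd F U _)))) +
  (ten (σ (0, (0, 0), 1))).comp (A.comp ((LinearMap.snd F _ U).comp (LinearMap.snd F U _)))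

theorem krL_ten (σ : W4 F →ₗ[F] W4 F) (A : U →ₗ[F] U) (y : W4 F) (u : U) :
    krL σ A (ten y u) = ten (σ y) (A u) := by
  have e : σ y = y.1 • σ (1, (0, 0), 0) + y.2.1.1 • σ (0, (1, 0), 0) + y.2.1.2 • σ (0, (0, 1), 0) +
      y.2.2 • σ (0, (0, 0), 1) := by
    simp only [← map_smul, ← map_add]
    congr 1
    simp [Prod.ext_iff]
  rw [e]
  simp only [krL, LinearMap.add_apply, LinearMap.comp_apply, map_add, map_smul, LinearMap.smul_apply]
  simp only [ten_apply, LinearMap.fst_apply, LinearMap.snd_apply, map_smul, Prod.smul_mk, smul_smul, mul_comm]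

/-- The tensor product of two automorphisms. -/
def kr (σ : W4 F ≃ₗ[F] W4 F) (A : U ≃ₗ[F] U) : V4 U ≃ₗ[F] V4 U :=
  LinearEquiv.ofLinear (krL σ.toLinearMap A.toLinearMap) (krL σ.symm.toLinearMap A.symm.toLinearMap)
    (hom_ext fun y u => by
      simp only [LinearMap.comp_apply, krL_ten, LinearEquiv.coe_coe, LinearEquiv.apply_symm_apply,
        LinearMap.id_apply])
    (hom_ext fun y u => by
      simp only [LinearMap.comp_apply, krL_ten, LinearEquiv.coe_coe, LinearEquiv.symm_apply_apply,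
        LinearMap.id_apply])

theorem kr_ten (σ : W4 F ≃ₗ[F] W4 F) (A : U ≃ₗ[F] U) (y : W4 F) (u : U) :
    kr σ A (ten y u) = ten (σ y) (A u) := krL_ten _ _ y u

/-- Tensor maps. -/
def IsKr (g : V4 U ≃ₗ[F] V4 U) : Prop :=
  ∃ (σ : W4 F ≃ₗ[F] W4 F) (A : U ≃ₗ[F] U), ∀ y u, g (ten y u) = ten (σ y) (A u)

theorem isKr_kr (σ : W4 F ≃ₗ[F] W4 F) (A : U ≃ₗ[F] U) : IsKr (kr σ A) := ⟨σ, A, kr_ten σ A⟩

theorem IsKr.mul {g h : V4 U ≃ₗ[F] V4 U} (hg : IsKr g) (hh : IsKr h) : IsKr (g * h) := by
  obtain ⟨σ, A, h1⟩ := hg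
  obtain ⟨τ, B, h2⟩ := hh
  exact ⟨τ.trans σ, B.trans A, fun y u => by rw [LinearEquiv.mul_apply, h2, h1]; rfl⟩

theorem IsKr.inv {g : V4 U ≃ₗ[F] V4 U} (hg : IsKr g) : IsKr g⁻¹ := by
  obtain ⟨σ, A, h1⟩ := hg
  refine ⟨σ.symm, A.symm, fun y u => g.injective ?_⟩
  rw [h1, σ.apply_symm_apply, A.apply_symm_apply]
  exact g.apply_symm_apply _

/-- The nilpotent part of the root group at the base point. -/
def N0 : Module.End F (V4 U) where
  toFun z := (z.2.2, (0, 0), 0)
  map_add' z w := by simp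
  map_smul' c z := by simp

@[simp] theorem N0_apply (z : V4 U) : (N0 : Module.End F (V4 U)) z = (z.2.2, (0, 0), 0) := rfl

theorem N0_sq : (N0 : Module.End F (V4 U)) * N0 = 0 := LinearMap.ext fun z => by simp

/-- The root group at the base point. -/
def rl (l : F) : V4 U ≃ₗ[F] V4 U := Pair.un N0 N0_sq l

@[simp] theorem rl_apply (l : F) (z : V4 U) : rl l z = (z.1 + l • z.2.2, z.2) := by
  refine Prod.ext ?_ (Prod.ext (Prod.ext ?_ ?_) ?_) <;> simp [rl]

theorem rl_eq_kr (l : F) : (rl l : V4 U ≃ₗ[F] V4 U) = kr (tv x0 (-l)) (LinearEquiv.refl F U) :=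
  equiv_ext fun y u => by
    rw [kr_ten]
    simp [x0, alp, add_smul, smul_smul, mul_comm]

/-- The stabiliser condition of the space over the base point. -/
def Stab (g : V4 U ≃ₗ[F] V4 U) : Prop := ∀ p : U, (g (p, (0, 0), 0)).2 = 0

/-- A central element of the radical. -/
def rad (T : U →ₗ[F] U) : V4 U ≃ₗ[F] V4 U where
  toFun z := (z.1 + T z.2.2, z.2)
  map_add' z w := by simp only [Prod.fst_add, Prod.snd_add, map_add, Prod.mk_add_mk]; congr 1; abel
  map_smul' c z := by simp [smul_add]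
  invFun z := (z.1 - T z.2.2, z.2)
  left_inv z := by simp
  right_inv z := by simp

@[simp] theorem rad_apply (T : U →ₗ[F] U) (z : V4 U) : rad T z = (z.1 + T z.2.2, z.2) := rfl

/-- Only scalars among the central elements of the radical. -/
def NoRad (M : Subgroup (V4 U ≃ₗ[F] V4 U)) : Prop :=
  ∀ T : U →ₗ[F] U, rad T ∈ M → ∃ e : F, ∀ x, T x = e • x

/-- A group of isometries containing all tensor isometries. -/
structure Setup (β : LinearMap.BilinForm F U) (M : Subgroup (V4 U ≃ₗ[F] V4 U)) : Prop where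
  symm : ∀ x y, β x y = β y x
  nondeg : ∀ x, (∀ y, β x y = 0) → x = 0
  two : (2 : F) ≠ 0
  dim : finrank F U = 3
  card : 5 ≤ Nat.card F
  iso : ∀ g ∈ M, ∀ z w, Om β (g z) (g w) = Om β z w
  kr : ∀ g, (∀ z w, Om β (g z) (g w) = Om β z w) → IsKr g → g ∈ M

variable {β : LinearMap.BilinForm F U} {M : Subgroup (V4 U ≃ₗ[F] V4 U)}

namespace Setup

variable (S : Setup β M)
include S

theorem finite : Finite F := Nat.finite_of_card_ne_zero (by have := S.card; omega)

theorem finiteDimensional : FiniteDimensional F U :=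
  Module.finite_of_finrank_pos (by have := S.dim; omega)

theorem nontrivial : Nontrivial U :=
  Module.nontrivial_of_finrank_pos (R := F) (by have := S.dim; omega)

/-- Tensor products of scaled isometries lie in the group. -/
theorem kr_mem {σ : W4 F ≃ₗ[F] W4 F} {A : U ≃ₗ[F] U} {c : F} (hσ : ∀ v w, alp (σ v) (σ w) = c * alp v w)
    (hA : ∀ x y, c * β (A x) (A y) = β x y) : SpFourOThree.kr σ A ∈ M := by
  refine S.kr _ (fun z w => ?_) (isKr_kr σ A)
  rw [decomp (F := F) z, decomp (F := F) w]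
  have h : ∀ x y u v, alp (σ x) (σ y) * β (A u) (A v) = alp x y * β u v := fun x y u v => by
    rw [hσ, ← hA u v]; ring
  simp only [map_add, kr_ten, Om_add_left, Om_add_right, Om_ten, h]

theorem krW_mem {σ : W4 F ≃ₗ[F] W4 F} (hσ : ∀ v w, alp (σ v) (σ w) = alp v w) :
    SpFourOThree.kr σ (LinearEquiv.refl F U) ∈ M :=
  S.kr_mem (c := 1) (by simpa using hσ) (by simp)

theorem krU_mem {A : U ≃ₗ[F] U} (hA : ∀ x y, β (A x) (A y) = β x y) :
    SpFourOThree.kr (LinearEquiv.refl F (W4 F)) A ∈ M :=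
  S.kr_mem (c := 1) (by simp) (by simpa using hA)

theorem rl_mem (l : F) : rl l ∈ M := rl_eq_kr (U := U) l ▸ S.krW_mem (tv_iso _ _)

/-- A skew map of square zero is zero. -/
theorem skew_sq_zero {K : U →ₗ[F] U} (hK : ∀ x y, β (K x) y + β x (K y) = 0) (h2 : ∀ x, K (K x) = 0) :
    K = 0 := by
  haveI := S.finiteDimensional
  have hle : LinearMap.range K ≤ LinearMap.ker K := by rintro _ ⟨x, rfl⟩; exact h2 x
  have h1 := Submodule.finrank_mono hle
  have h3 := K.finrank_range_add_finrank_ker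
  have hinj : Function.Injective (β : U →ₗ[F] U →ₗ[F] F) := (injective_iff_map_eq_zero _).2 fun x hx =>
    S.nondeg x fun y => by rw [hx]; rfl
  have h := Cfsg.Agent.Lib.AlternatingRank.even_finrank_range_of_alt _ rfl ((β : U →ₗ[F] U →ₗ[F] F) ∘ₗ K) fun v => by
    have h1 := hK v v
    rw [S.symm v (K v), ← two_mul] at h1
    exact (mul_eq_zero.mp h1).resolve_left S.two
  rw [LinearMap.range_comp, ← ((LinearMap.range K).equivMapOfInjective β hinj).finrank_eq] at h
  obtain ⟨r, hr⟩ := h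
  have := S.dim
  exact LinearMap.range_eq_bot.1 (Submodule.finrank_eq_zero.1 (by omega))

/-- A skew map multiplying the form kills it. -/
theorem skew_scalar {K : U →ₗ[F] U} (hK : ∀ x y, β (K x) y + β x (K y) = 0) {e : F}
    (he : ∀ x y, β (K x) (K y) = e * β x y) : K = 0 := by
  haveI := S.finiteDimensional
  refine S.skew_sq_zero hK fun x => S.nondeg _ fun y => ?_
  have h0 : e = 0 := by
    by_contra h
    have hinj : Function.Injective K := (injective_iff_map_eq_zero K).2 fun x hx => S.nondeg x fun y => by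
      have := he x y
      rw [hx, map_zero, LinearMap.zero_apply, eq_comm] at this
      exact (mul_eq_zero.1 this).resolve_left h
    have hinjβ : Function.Injective (β : U →ₗ[F] U →ₗ[F] F) := (injective_iff_map_eq_zero _).2 fun x hx =>
      S.nondeg x fun y => by rw [hx]; rfl
    have h' := Cfsg.Agent.Lib.AlternatingRank.even_finrank_range_of_alt _ rfl ((β : U →ₗ[F] U →ₗ[F] F) ∘ₗ K) fun v => by
      have h1 := hK v v
      rw [S.symm v (K v), ← two_mul] at h1
      exact (mul_eq_zero.mp h1).resolve_left S.two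
    rw [LinearMap.range_comp, ← ((LinearMap.range K).equivMapOfInjective β hinjβ).finrank_eq,
      LinearMap.finrank_range_of_inj hinj, S.dim] at h'
    exact absurd h' (by decide)
  have h1 := hK (K x) y
  rw [he, h0, zero_mul, add_zero] at h1
  exact h1

end Setup

end Cfsg.Agent.Lib.SpFourOThree
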