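import Cfsg.Prelude.Def_GeometricClasses
import Cfsg.Agent.Lib.SympMax.Basic
import Cfsg.Agent.Lib.SpFourOThree.Root

/-!
The stabiliser of a tensor decomposition `F^4 ⊗ F^3` of a symplectic space is maximal for at least five elements.
-/

set_option autoImplicit false
set_option linter.unusedSectionVars false

namespace Cfsg.Agent.Lib.SpFourOThree

open Matrix Module
open scoped Kronecker
open Cfsg.Agent.Lib

variable {F : Type*} [Field F] {m : ℕ}

/-- A symplectic basis of a symplectic 4-space. -/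
theorem exists_sympBasis {f : (Fin 4 → F) → (Fin 4 → F) → F} (hf : Cfsg.Geo.IsSymplecticForm f) :
    ∃ B : W4 F ≃ₗ[F] (Fin 4 → F), ∀ v w, f (B v) (B w) = alp v w := by
  obtain ⟨hb, hskew, halt, hnd⟩ := hf
  let fR : (Fin 4 → F) → ((Fin 4 → F) →ₗ[F] F) := fun a =>
    { toFun := f a, map_add' := hb.add_right a, map_smul' := fun c x => hb.smul_right c a x }
  have he0 : (Pi.single 0 1 : Fin 4 → F) ≠ 0 := fun h => (one_ne_zero : (1 : F) ≠ 0) (by simpa using congrFun h 0)
  generalize (Pi.single 0 1 : Fin 4 → F) = e at he0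
  obtain ⟨f₀, hf₀⟩ := (hnd e he0).2
  obtain ⟨f', hf'⟩ : ∃ f', f' = (f e f₀)⁻¹ • f₀ := ⟨_, rfl⟩
  have hef : f e f' = 1 := by rw [hf', hb.smul_right, inv_mul_cancel₀ hf₀]
  obtain ⟨g, hg, hg0⟩ := Submodule.exists_mem_ne_zero_of_ne_bot
    (LinearMap.ker_ne_bot_of_finrank_lt (f := (fR e).prod (fR f'))
      (by rw [Module.finrank_prod, finrank_self, Module.finrank_fin_fun]; norm_num))
  have hge : f e g = 0 := congrArg Prod.fst (LinearMap.mem_ker.1 hg)
  have hgf : f f' g = 0 := congrArg Prod.snd (LinearMap.mem_ker.1 hg)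
  obtain ⟨h₀, hh₀⟩ := (hnd g hg0).2
  obtain ⟨h₁, hh₁⟩ : ∃ h₁, h₁ = h₀ + f f' h₀ • e + (-(f e h₀)) • f' := ⟨_, rfl⟩
  have hfe : f f' e = -1 := by rw [hskew, hef]
  have e1 : f e h₁ = 0 := by
    rw [hh₁, hb.add_right, hb.add_right, hb.smul_right, hb.smul_right, halt, hef]; ring
  have e2 : f f' h₁ = 0 := by
    rw [hh₁, hb.add_right, hb.add_right, hb.smul_right, hb.smul_right, halt, hfe]; ring
  have e3 : f g h₁ = f g h₀ := by
    rw [hh₁, hb.add_right, hb.add_right, hb.smul_right, hb.smul_right, hskew g e, hge, hskew g f', hgf]; ring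
  obtain ⟨h, hh⟩ : ∃ h, h = (f g h₀)⁻¹ • h₁ := ⟨_, rfl⟩
  have heh : f e h = 0 := by rw [hh, hb.smul_right, e1, mul_zero]
  have hfh : f f' h = 0 := by rw [hh, hb.smul_right, e2, mul_zero]
  have hgh : f g h = 1 := by rw [hh, hb.smul_right, e3, inv_mul_cancel₀ hh₀]
  let B₀ : W4 F →ₗ[F] (Fin 4 → F) :=
    (LinearMap.id.smulRight e).coprod (((LinearMap.id.smulRight g).coprod (LinearMap.id.smulRight h)).coprod
      (LinearMap.id.smulRight f'))
  have hB : ∀ v w, f (B₀ v) (B₀ w) = alp v w := fun v w => by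
    simp only [B₀, LinearMap.coprod_apply, LinearMap.smulRight_apply, LinearMap.id_apply, hb.add_left,
      hb.add_right, hb.smul_left, hb.smul_right, halt, hef, hfe, hge, hgf, heh, hfh, hgh, hskew g e, hskew h e,
      hskew g f', hskew h f', hskew h g, alp]
    ring
  have hinj : Function.Injective B₀ := (injective_iff_map_eq_zero B₀).2 fun v hv => alp_nondeg fun w => by
    rw [← hB, hv, show (0 : Fin 4 → F) = (0 : F) • 0 from (zero_smul F _).symm, hb.smul_left, zero_mul]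
  exact ⟨B₀.linearEquivOfInjective hinj (by simp [Module.finrank_prod]), fun v w => by
    rw [LinearMap.linearEquivOfInjective_apply, LinearMap.linearEquivOfInjective_apply]; exact hB v w⟩

variable (B : W4 F ≃ₗ[F] (Fin 4 → F))

/-- The coordinates of the four components as a tensor. -/
def tenVec : V4 (Fin 3 → F) ≃ₗ[F] (Fin 4 × Fin 3 → F) where
  toFun z := fun x => B (co (LinearMap.proj x.2) z) x.1
  map_add' z w := funext fun x => by simp only [map_add]; rfl
  map_smul' c z := funext fun x => by simp only [map_smul]; rfl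
  invFun v :=
    (fun j => (B.symm fun i => v (i, j)).1,
      (fun j => (B.symm fun i => v (i, j)).2.1.1, fun j => (B.symm fun i => v (i, j)).2.1.2),
      fun j => (B.symm fun i => v (i, j)).2.2)
  left_inv z := by
    have e : ∀ j, (B.symm fun i => B (co (LinearMap.proj j) z) i) = co (LinearMap.proj j) z :=
      fun j => B.symm_apply_apply _
    simp only [e]
    simp
  right_inv v := funext fun ⟨i, j⟩ => by
    simp only [co_apply, LinearMap.proj_apply]
    rw [show (((B.symm fun i => v (i, j)).1,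
      ((B.symm fun i => v (i, j)).2.1.1, (B.symm fun i => v (i, j)).2.1.2),
      (B.symm fun i => v (i, j)).2.2) : W4 F) = B.symm fun i => v (i, j) from rfl, B.apply_symm_apply]

theorem tenVec_ten (y : W4 F) (u : Fin 3 → F) (x : Fin 4 × Fin 3) :
    tenVec B (ten y u) x = B y x.1 * u x.2 := by
  show B (co (LinearMap.proj x.2) (ten y u)) x.1 = _
  rw [co_ten, map_smul, Pi.smul_apply, smul_eq_mul, LinearMap.proj_apply, mul_comm]

theorem kron_tenVec (a : Matrix (Fin 4) (Fin 4) F) (C : Matrix (Fin 3) (Fin 3) F) (y : W4 F) (u : Fin 3 → F) :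
    (a ⊗ₖ C) *ᵥ tenVec B (ten y u) = tenVec B (ten (B.symm (a *ᵥ B y)) (C *ᵥ u)) := by
  funext ⟨i, j⟩
  rw [tenVec_ten, B.apply_symm_apply]
  simp only [mulVec, dotProduct, Fintype.sum_prod_type, kroneckerMap_apply, tenVec_ten, Finset.sum_mul_sum]
  exact Finset.sum_congr rfl fun k _ => Finset.sum_congr rfl fun l _ => by ring

variable (e : (Fin m ⊕ Fin m) ≃ Fin 4 × Fin 3) (P : GL (Fin m ⊕ Fin m) F)

/-- The change of variables. -/
noncomputable def coord : V4 (Fin 3 → F) ≃ₗ[F] (Fin m ⊕ Fin m → F) :=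
  (tenVec B).trans ((LinearEquiv.funCongrLeft F F e).trans (Forms.glEquiv (Fin m ⊕ Fin m) F P))

theorem coord_apply (z : V4 (Fin 3 → F)) :
    coord B e P z = (P : Matrix (Fin m ⊕ Fin m) (Fin m ⊕ Fin m) F) *ᵥ (tenVec B z ∘ e) := rfl

/-- Transport of matrices to maps of the model. -/
noncomputable def toModel : GL (Fin m ⊕ Fin m) F →* (V4 (Fin 3 → F) ≃ₗ[F] V4 (Fin 3 → F)) where
  toFun g := ((coord B e P).trans (Forms.glEquiv (Fin m ⊕ Fin m) F g)).trans (coord B e P).symm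
  map_one' := LinearEquiv.ext fun z => by simp
  map_mul' g h := LinearEquiv.ext fun z => by simp [mulVec_mulVec]

theorem coord_toModel (g : GL (Fin m ⊕ Fin m) F) (z : V4 (Fin 3 → F)) :
    coord B e P (toModel B e P g z) = (g : Matrix (Fin m ⊕ Fin m) (Fin m ⊕ Fin m) F) *ᵥ coord B e P z := by
  simp [toModel]

theorem toModel_injective : Function.Injective (toModel B e P : GL (Fin m ⊕ Fin m) F → _) := by
  intro g h hgh
  refine Units.ext (Matrix.ext_iff_mulVec.mpr fun v => ?_)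
  obtain ⟨z, rfl⟩ := (coord B e P).surjective v
  rw [← coord_toModel, ← coord_toModel, hgh]

theorem reindex_tenVec (R : GL (Fin 4 × Fin 3) F) (z : V4 (Fin 3 → F)) :
    ((P * Cfsg.Geo.glReindex e.symm R * P⁻¹ : GL (Fin m ⊕ Fin m) F) :
      Matrix (Fin m ⊕ Fin m) (Fin m ⊕ Fin m) F) *ᵥ coord B e P z =
      (P : Matrix (Fin m ⊕ Fin m) (Fin m ⊕ Fin m) F) *ᵥ
        (((R : Matrix (Fin 4 × Fin 3) (Fin 4 × Fin 3) F) *ᵥ tenVec B z) ∘ e) := by
  rw [coord_apply, mulVec_mulVec, Units.val_mul, mul_assoc, ← Units.val_mul, inv_mul_cancel, Units.val_one,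
    mul_one, Units.val_mul, ← mulVec_mulVec]
  congr 1
  show (Matrix.reindexAlgEquiv F F e.symm (R : Matrix (Fin 4 × Fin 3) (Fin 4 × Fin 3) F)) *ᵥ _ = _
  rw [Matrix.coe_reindexAlgEquiv, Matrix.reindex_apply, Equiv.symm_symm, Matrix.submatrix_mulVec_equiv]
  congr 2
  funext x
  simp

theorem isKr_of_mem {g : GL (Fin m ⊕ Fin m) F} (hg : g ∈ Cfsg.Geo.tensorProductSubgroup 4 3 e P) :
    IsKr (toModel B e P g) := by
  obtain ⟨_, ⟨R, ⟨a, C, hR⟩, rfl⟩, rfl⟩ := hg
  refine ⟨(B.trans (Forms.glEquiv (Fin 4) F a)).trans B.symm, Forms.glEquiv (Fin 3) F C, fun y u => ?_⟩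
  apply (coord B e P).injective
  simp only [MulEquiv.coe_toMonoidHom, MulAut.conj_apply, Forms.glEquiv_apply, LinearEquiv.trans_apply]
  rw [coord_toModel, reindex_tenVec, hR, kron_tenVec, ← coord_apply]

theorem mem_of_isKr {g : GL (Fin m ⊕ Fin m) F} (hg : IsKr (toModel B e P g)) :
    g ∈ Cfsg.Geo.tensorProductSubgroup 4 3 e P := by
  obtain ⟨σ, A, hA⟩ := hg
  obtain ⟨a, ha⟩ : ∃ a : GL (Fin 4) F, a = (Forms.glEquiv (Fin 4) F).symm ((B.symm.trans σ).trans B) := ⟨_, rfl⟩
  obtain ⟨C, hC⟩ : ∃ C : GL (Fin 3) F, C = (Forms.glEquiv (Fin 3) F).symm A := ⟨_, rfl⟩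
  obtain ⟨R, hR⟩ : ∃ R : GL (Fin 4 × Fin 3) F, (R : Matrix (Fin 4 × Fin 3) (Fin 4 × Fin 3) F) =
      (a : Matrix (Fin 4) (Fin 4) F) ⊗ₖ (C : Matrix (Fin 3) (Fin 3) F) := by
    refine ⟨GeneralLinearGroup.mkOfDetNeZero (_ ⊗ₖ _) ?_, rfl⟩
    erw [det_kronecker]
    exact mul_ne_zero (pow_ne_zero _ ((Matrix.isUnit_iff_isUnit_det _).mp (Units.isUnit _)).ne_zero)
      (pow_ne_zero _ ((Matrix.isUnit_iff_isUnit_det _).mp (Units.isUnit _)).ne_zero)
  refine ⟨_, ⟨R, ⟨a, C, hR⟩, rfl⟩, toModel_injective B e P (equiv_ext fun y u => ?_)⟩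
  apply (coord B e P).injective
  simp only [MulEquiv.coe_toMonoidHom, MulAut.conj_apply]
  rw [coord_toModel, reindex_tenVec, hR, kron_tenVec, ← coord_apply, hA]
  simp [ha, hC, Forms.glEquiv_symm_mulVec]

theorem exists_setup_form {f₁ : (Fin 4 → F) → (Fin 4 → F) → F} {f₂ : (Fin 3 → F) → (Fin 3 → F) → F}
    (hf₁ : Cfsg.Geo.IsSymplecticForm f₁) (hB : ∀ v w, f₁ (B v) (B w) = alp v w)
    (hf₂ : Cfsg.Geo.IsSymmetricForm f₂)
    (hT : Cfsg.Geo.IsTensorFormStructure id (Cfsg.sympForm m F) f₁ f₂ e P) :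
    ∃ (β : LinearMap.BilinForm F (Fin 3 → F)) (κ : F), κ ≠ 0 ∧ (∀ x y, β x y = β y x) ∧
      (∀ x, (∀ y, β x y = 0) → x = 0) ∧
      ∀ z w, Cfsg.sympForm m F (coord B e P z) (coord B e P w) = κ * Om β z w := by
  obtain ⟨c, hc, hT⟩ := hT
  obtain ⟨hb₁, -, -, -⟩ := hf₁
  obtain ⟨hb₂, hs₂, hn₂⟩ := hf₂
  let α : LinearMap.BilinForm F (Fin 4 → F) :=
    LinearMap.mk₂ F f₁ hb₁.add_left hb₁.smul_left (fun v x y => hb₁.add_right v x y)
      (fun a v x => hb₁.smul_right a v x)
  let β : LinearMap.BilinForm F (Fin 3 → F) :=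
    LinearMap.mk₂ F f₂ hb₂.add_left hb₂.smul_left (fun v x y => hb₂.add_right v x y)
      (fun a v x => hb₂.smul_right a v x)
  have hexp : ∀ {n : ℕ} (f : LinearMap.BilinForm F (Fin n → F)) (x y : Fin n → F),
      f x y = ∑ i, ∑ j, x i * f (Pi.single i 1) (Pi.single j 1) * y j := fun {n} f x y => by
    conv_lhs => rw [← Matrix.toBilin'_toMatrix' f, Matrix.toBilin'_apply]
    simp [LinearMap.BilinForm.toMatrix'_apply]
  have hpure : ∀ y u y' u', Cfsg.Geo.formOfGram id
      (Cfsg.Geo.gramMatrix f₁ ⊗ₖ Cfsg.Geo.gramMatrix f₂) (tenVec B (ten y u)) (tenVec B (ten y' u')) =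
      alp y y' * f₂ u u' := fun y u y' u' => by
    rw [← hB, show f₁ (B y) (B y') = α (B y) (B y') from rfl, show f₂ u u' = β u u' from rfl, hexp α, hexp β]
    simp only [Cfsg.Geo.formOfGram, id, tenVec_ten, kroneckerMap_apply, Cfsg.Geo.gramMatrix,
      Fintype.sum_prod_type, Finset.sum_mul_sum]
    refine Finset.sum_congr rfl fun i _ => Finset.sum_congr rfl fun j _ => Finset.sum_congr rfl fun k _ =>
      Finset.sum_congr rfl fun l _ => ?_
    simp only [α, β, LinearMap.mk₂_apply]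
    ring
  refine ⟨β, c, hc, fun x y => hs₂ x y, fun x hx => ?_, fun z w => ?_⟩
  · by_contra h0
    obtain ⟨y, hy⟩ := (hn₂ x h0).2
    exact hy (hx y)
  · have key : ∀ (y : W4 F) u (y' : W4 F) u', Cfsg.sympForm m F (coord B e P (ten y u)) (coord B e P (ten y' u')) =
        c * Om β (ten y u) (ten y' u') := fun y u y' u' => by
      rw [coord_apply, coord_apply, hT, hpure, Om_ten]
      rfl
    rw [decomp (F := F) z, decomp (F := F) w]
    simp only [map_add, Om_add_left, Om_add_right, SympMax.form_add_left, SympMax.form_add_right, key]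
    ring

/-- The tensor stabiliser `Sp_4 ⊗ O_3` is maximal. -/
theorem isMaximalIn_tensor [Finite F] (hq : 5 ≤ Nat.card F) (h2 : (2 : F) ≠ 0)
    {f₁ : (Fin 4 → F) → (Fin 4 → F) → F} {f₂ : (Fin 3 → F) → (Fin 3 → F) → F}
    (hf₁ : Cfsg.Geo.IsSymplecticForm f₁) (hf₂ : Cfsg.Geo.IsSymmetricForm f₂)
    (hT : Cfsg.Geo.IsTensorFormStructure id (Cfsg.sympForm m F) f₁ f₂ e P) :
    Cfsg.Geo.IsMaximalIn (Cfsg.spGL m F) (Cfsg.Geo.tensorProductSubgroup 4 3 e P ⊓ Cfsg.spGL m F) := by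
  classical
  obtain ⟨B, hB⟩ := exists_sympBasis hf₁
  obtain ⟨β, κ, hκ, hsymm, hnd, hf⟩ := exists_setup_form B e P hf₁ hB hf₂ hT
  have hiso : ∀ g ∈ Cfsg.spGL m F, ∀ z w, Om β (toModel B e P g z) (toModel B e P g w) = Om β z w := by
    intro g hg z w
    refine mul_left_cancel₀ hκ ?_
    rw [← hf, ← hf, coord_toModel, coord_toModel, SympMax.apply_sp hg]
  have hsetup : ∀ M : Subgroup (GL (Fin m ⊕ Fin m) F),
      Cfsg.Geo.tensorProductSubgroup 4 3 e P ⊓ Cfsg.spGL m F ≤ M → M ≤ Cfsg.spGL m F →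
      Setup β (M.map (toModel B e P)) := fun M hHM hMS =>
    { symm := hsymm
      nondeg := hnd
      two := h2
      dim := Module.finrank_fin_fun F
      card := hq
      iso := by
        rintro _ ⟨g, hg, rfl⟩
        exact hiso g (hMS hg)
      kr := fun h hh hk => by
        obtain ⟨g, rfl⟩ : ∃ g, toModel B e P g = h := by
          refine ⟨(Forms.glEquiv (Fin m ⊕ Fin m) F).symm (((coord B e P).symm.trans h).trans (coord B e P)),
            LinearEquiv.ext fun z => (coord B e P).injective ?_⟩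
          rw [coord_toModel, Forms.glEquiv_symm_mulVec]
          simp
        refine ⟨g, hHM ⟨mem_of_isKr B e P hk, fun u v => ?_⟩, rfl⟩
        obtain ⟨z, rfl⟩ := (coord B e P).surjective u
        obtain ⟨w, rfl⟩ := (coord B e P).surjective v
        show Cfsg.sympForm m F ((g : Matrix (Fin m ⊕ Fin m) (Fin m ⊕ Fin m) F) *ᵥ coord B e P z)
          ((g : Matrix (Fin m ⊕ Fin m) (Fin m ⊕ Fin m) F) *ᵥ coord B e P w) = _
        rw [← coord_toModel, ← coord_toModel, hf, hf, hh] }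
  haveI : Finite (V4 (Fin 3 → F) ≃ₗ[F] V4 (Fin 3 → F)) := Finite.of_injective _ DFunLike.coe_injective
  refine ⟨lt_of_le_of_ne inf_le_right fun heq => ?_, fun M hHM hMS => ?_⟩
  · -- a transvection at a pure vector is not a tensor map
    have S := hsetup _ le_rfl inf_le_right
    obtain ⟨u, hu⟩ := S.exists_aniso
    obtain ⟨v, huv, hv⟩ := S.exists_orth_aniso hu
    obtain ⟨Z, hZ⟩ : ∃ Z : V4 (Fin 3 → F), Z = ten (x0 : W4 F) u := ⟨_, rfl⟩
    obtain ⟨σ, A, hA⟩ := isKr_of_mem B e P (heq.ge (SympMax.T_mem (coord B e P Z) 1)).1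
    have hTz : ∀ z, toModel B e P (SympMax.T (coord B e P Z) 1) z = z + (κ * Om β z Z) • Z := by
      intro z
      apply (coord B e P).injective
      rw [coord_toModel, SympMax.T_mulVec, hf, one_mul, map_add, map_smul]
    -- it fixes `ten y v` for all `y`, hence `σ` is scalar
    have h1 : ∀ y, ten (σ y) (A v) = ten y v := fun y => by
      rw [← hA, hTz, hZ, Om_ten, hsymm v u, huv, mul_zero, mul_zero, zero_smul, add_zero]
    have hv0 : v ≠ 0 := fun e' => hv (by rw [e', map_zero])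
    obtain ⟨φ, hφ⟩ : ∃ φ : Dual F (Fin 3 → F), φ v ≠ 0 := by
      by_contra hh
      push Not at hh
      exact hv0 ((Module.forall_dual_apply_eq_zero_iff F v).1 hh)
    obtain ⟨w, hw⟩ := exists_alp_ne (x0_ne (F := F))
    have h3 := hA w u
    rw [hTz, hZ, Om_ten] at h3
    have hl : ∀ y, φ (A v) • σ y = φ v • y := fun y => by
      have := congrArg (co φ) (h1 y)
      rwa [co_ten, co_ten] at this
    have hd : φ (A v) ≠ 0 := fun e' => x0_ne (F := F) (by
      have := hl x0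
      rw [e', zero_smul, eq_comm, smul_eq_zero] at this
      exact this.resolve_left hφ)
    obtain ⟨l, hσ⟩ : ∃ l : F, ∀ y, σ y = l • y := ⟨φ v / φ (A v), fun y => by
      rw [div_eq_inv_mul, ← smul_smul, ← hl, smul_smul, inv_mul_cancel₀ hd, one_smul]⟩
    rw [hσ, map_smul, LinearMap.smul_apply] at h3
    have hu0 : u ≠ 0 := fun e' => hu (by rw [e', map_zero])
    obtain ⟨ψ, hψ⟩ : ∃ ψ : Dual F (Fin 3 → F), ψ u ≠ 0 := by
      by_contra hh
      push Not at hh
      exact hu0 ((Module.forall_dual_apply_eq_zero_iff F u).1 hh)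
    have h4 := congrArg (fun x => alp x w) (congrArg (co ψ) h3)
    simp only [map_add, map_smul, co_ten, alp_add_left, alp_smul_left, alp_self, mul_zero, zero_add,
      mul_eq_zero, hψ, hw, false_or, or_false, hκ, hu] at h4
    rw [alp_swap x0 w] at h4
    simp [hw] at h4
  · have S := hsetup M hHM hMS
    by_cases hno : NoRad (M.map (toModel B e P))
    · left
      refine le_antisymm (fun g hg => ⟨?_, hMS hg⟩) hHM
      exact mem_of_isKr B e P (S.le_kr_of_noRad hno _ (Subgroup.mem_map_of_mem _ hg))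
    · right
      refine SympMax.eq_spGL hMS fun v c => ?_
      obtain ⟨Z, rfl⟩ := (coord B e P).surjective v
      obtain ⟨_, ⟨g, hg, rfl⟩, hgz⟩ := S.all_roots hno Z (c * κ)
      suffices h : SympMax.T (coord B e P Z) c = g by rw [h]; exact hg
      apply toModel_injective B e P
      refine LinearEquiv.ext fun w => (coord B e P).injective ?_
      rw [coord_toModel, SympMax.T_mulVec, hf, hgz, map_add, map_smul, mul_assoc]

end Cfsg.Agent.Lib.SpFourOThree
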