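import Cfsg.Agent.Lib.SpFourOThree.Stab

/-!
Without non-scalar radical elements the group consists of tensor maps.
-/

set_option autoImplicit false
set_option linter.unusedSectionVars false

namespace Cfsg.Agent.Lib.SpFourOThree

open Module

variable {F U : Type*} [Field F] [AddCommGroup U] [Module F U]
  {β : LinearMap.BilinForm F U} {M : Subgroup (V4 U ≃ₗ[F] V4 U)}

theorem ten_eq_zero_of_indep {a b : W4 F} (h : ∀ s t : F, s • a + t • b = 0 → s = 0 ∧ t = 0) {u v : U}
    (huv : ten a u + ten b v = (0 : V4 U)) : u = 0 ∧ v = 0 := by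
  have key : ∀ φ : Dual F U, φ u = 0 ∧ φ v = 0 := fun φ => by
    have := congrArg (co φ) huv
    rw [map_add, co_ten, co_ten, map_zero] at this
    exact h _ _ this
  exact ⟨(Module.forall_dual_apply_eq_zero_iff F u).1 fun φ => (key φ).1,
    (Module.forall_dual_apply_eq_zero_iff F v).1 fun φ => (key φ).2⟩

theorem isKr_pow {g : V4 U ≃ₗ[F] V4 U} {σ : W4 F ≃ₗ[F] W4 F} {A : U ≃ₗ[F] U}
    (h : ∀ y u, g (ten y u) = ten (σ y) (A u)) : ∀ (j : ℕ) (y : W4 F) (u : U),
      (g ^ j) (ten y u) = ten ((σ.toLinearMap ^ j) y) ((A.toLinearMap ^ j) u)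
  | 0, y, u => by simp
  | j + 1, y, u => by
    rw [pow_succ', LinearEquiv.mul_apply, isKr_pow h j, h, pow_succ', pow_succ', Module.End.mul_apply,
      Module.End.mul_apply]
    rfl

theorem eq_smul_of_eigen {A : U →ₗ[F] U} (h : ∀ u, ∃ a : F, A u = a • u) : ∃ a : F, ∀ u, A u = a • u := by
  rcases subsingleton_or_nontrivial U with hU | hU
  · exact ⟨0, fun u => Subsingleton.elim _ _⟩
  obtain ⟨u₀, hu₀⟩ := exists_ne (0 : U)
  obtain ⟨a, ha⟩ := h u₀
  refine ⟨a, fun u => ?_⟩
  obtain ⟨b, hb⟩ := h u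
  obtain ⟨c, hc⟩ := h (u₀ + u)
  rw [map_add, ha, hb, smul_add, ← sub_eq_zero] at hc
  by_cases hu : ∃ t : F, u = t • u₀
  · obtain ⟨t, rfl⟩ := hu
    rw [map_smul, ha, smul_comm]
  have h1 : b - c = 0 := by
    by_contra hne
    refine hu ⟨(b - c)⁻¹ * (c - a), ?_⟩
    have h2 : (b - c) • u = (c - a) • u₀ := by linear_combination (norm := module) hc
    rw [← smul_smul, ← h2, smul_smul, inv_mul_cancel₀ hne, one_smul]
  have h2 : (a - c) • u₀ = 0 := by
    have h3 : (b - c) • u = 0 := by rw [h1, zero_smul]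
    linear_combination (norm := module) hc - h3
  rw [hb, sub_eq_zero.1 h1, ← sub_eq_zero.1 ((smul_eq_zero.1 h2).resolve_right hu₀)]

namespace Setup

variable (S : Setup β M)
include S

theorem exists_aniso : ∃ u, β u u ≠ 0 := by
  haveI := S.nontrivial
  by_contra h
  push Not at h
  obtain ⟨x, hx⟩ := exists_ne (0 : U)
  refine hx (S.nondeg x fun y => ?_)
  have := h (x + y)
  simp only [map_add, LinearMap.add_apply, h x, h y, S.symm y x, zero_add, add_zero, ← two_mul] at this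
  exact (mul_eq_zero.1 this).resolve_left S.two

/-- The two factors of a tensor map in the group are similitudes. -/
theorem form {g : V4 U ≃ₗ[F] V4 U} (hg : g ∈ M) {σ : W4 F ≃ₗ[F] W4 F} {A : U ≃ₗ[F] U}
    (h : ∀ y u, g (ten y u) = ten (σ y) (A u)) :
    ∃ μ : F, μ ≠ 0 ∧ (∀ v w, μ * alp (σ v) (σ w) = alp v w) ∧ ∀ u v, β (A u) (A v) = μ * β u v := by
  have key : ∀ v w u u', alp (σ v) (σ w) * β (A u) (A u') = alp v w * β u u' := fun v w u u' => by
    rw [← Om_ten, ← Om_ten, ← h, ← h, S.iso g hg]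
  obtain ⟨u₀, hu⟩ := S.exists_aniso
  obtain ⟨w₀, hw⟩ := exists_alp_ne (x0_ne (F := F))
  have h1 : ∀ v w, β (A u₀) (A u₀) / β u₀ u₀ * alp (σ v) (σ w) = alp v w := fun v w => by
    rw [div_mul_eq_mul_div, div_eq_iff hu, mul_comm, key]
  have hμ : β (A u₀) (A u₀) / β u₀ u₀ ≠ 0 := fun e => hw (by rw [← h1, e, zero_mul])
  refine ⟨_, hμ, h1, fun u v => ?_⟩
  have h2 := key x0 w₀ u v
  rw [← h1 x0 w₀] at h2
  have h3 : alp (σ x0) (σ w₀) ≠ 0 := fun e => hw (by rw [← h1, e, mul_zero])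
  exact mul_left_cancel₀ h3 (by rw [h2]; ring)

/-- An element moving the pure space over `y` to a pure space is a tensor map. -/
theorem kr_of_pure (hno : NoRad M) {g : V4 U ≃ₗ[F] V4 U} (hg : g ∈ M) {y : W4 F} (hy : y ≠ 0)
    (h : ∀ p : U, ∃ u, g (p, (0, 0), 0) = ten y u) : IsKr g := by
  obtain ⟨σ, hσ, hσ0⟩ := exists_symp hy
  obtain ⟨k, hk⟩ : ∃ k, k = SpFourOThree.kr σ (LinearEquiv.refl F U) := ⟨_, rfl⟩
  have hkM : k ∈ M := hk ▸ S.krW_mem hσ
  have hkk : IsKr k := by rw [hk]; exact isKr_kr _ _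
  have hs : Stab (k⁻¹ * g) := fun p => by
    obtain ⟨u, hu⟩ := h p
    have e : k (ten (x0 : W4 F) u) = ten y u := by rw [hk, kr_ten, hσ0]; rfl
    rw [LinearEquiv.mul_apply, hu, ← e, show k⁻¹ (k (ten (x0 : W4 F) u)) = ten (x0 : W4 F) u from k.symm_apply_apply _, ten_x0]
    rfl
  have := hkk.mul
    (S.stab_kr hno (M.mul_mem (M.inv_mem hkM) hg) hs)
  rwa [mul_inv_cancel_left] at this

/-- If a conjugate of the transvection is a tensor map, so is the conjugating element. -/
theorem kr_of_conj (hno : NoRad M) {k : V4 U ≃ₗ[F] V4 U} (hk : k ∈ M)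
    (hkr : IsKr (k * (rl 1 : V4 U ≃ₗ[F] V4 U) * k⁻¹)) : IsKr k := by
  classical
  haveI := S.finiteDimensional
  haveI := S.nontrivial
  obtain ⟨σ, A, h⟩ := hkr
  have hgM : k * (rl 1 : V4 U ≃ₗ[F] V4 U) * k⁻¹ ∈ M := M.mul_mem (M.mul_mem hk (S.rl_mem 1)) (M.inv_mem hk)
  obtain ⟨n, hn⟩ : ∃ n, n = Pair.conjEnd (N0 : Module.End F (V4 U)) k := ⟨_, rfl⟩
  have hgz : ∀ z, (k * (rl 1 : V4 U ≃ₗ[F] V4 U) * k⁻¹) z = z + n z := fun z => by
    rw [hn, rl, Pair.conj_un_apply, one_smul]
  have hnn : ∀ z, n (n z) = 0 := fun z => by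
    rw [hn, ← Module.End.mul_apply, Pair.conjEnd_sq _ N0_sq]; rfl
  have hquad : ∀ (φ : Dual F U) y u, φ (A (A u)) • σ (σ y) - (2 * φ (A u)) • σ y + φ u • y = 0 := by
    intro φ y u
    have e : (ten (σ (σ y)) (A (A u)) : V4 U) - (2 : F) • ten (σ y) (A u) + ten y u = 0 := by
      rw [← h, ← h, hgz, hgz, map_add, hnn]
      module
    have := congrArg (co φ) e
    simp only [map_add, map_sub, map_smul, co_ten, map_zero, smul_smul] at this
    exact this
  obtain ⟨μ, hμ, hσf, hAf⟩ := S.form hgM h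
  have hAs : ∀ u, ∃ a : F, A u = a • u := by
    by_contra hne
    push Not at hne
    obtain ⟨u, hu⟩ := hne
    have hu0 : u ≠ 0 := fun e => hu 0 (by rw [e, map_zero, smul_zero])
    obtain ⟨w₀, hw₀⟩ : ∃ w : W4 F, w ≠ 0 := ⟨x0, x0_ne⟩
    by_cases hin : A u ∈ Submodule.span F {u, A (A u)}
    swap
    · obtain ⟨φ, hφ1, hφ⟩ := Submodule.exists_dual_map_eq_bot_of_notMem hin inferInstance
      have h0 : ∀ x ∈ Submodule.span F ({u, A (A u)} : Set U), φ x = 0 := fun x hx =>
        (Submodule.mem_bot F).1 (hφ ▸ Submodule.mem_map_of_mem hx)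
      have := hquad φ w₀ u
      rw [h0 _ (Submodule.subset_span (by simp)), h0 u (Submodule.subset_span (by simp)), zero_smul,
        zero_smul, zero_sub, add_zero, neg_eq_zero, smul_eq_zero] at this
      exact hw₀ ((LinearEquiv.map_eq_zero_iff σ).1 (this.resolve_left (mul_ne_zero S.two hφ1)))
    obtain ⟨a, b, hab⟩ := Submodule.mem_span_pair.1 hin
    have hb : b ≠ 0 := fun e => hu a (by rw [← hab, e, zero_smul, add_zero])
    obtain ⟨φ, hφ1, hφ⟩ := Submodule.exists_dual_map_eq_bot_of_notMem (p := F ∙ u) (x := A u) (fun hm => by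
      obtain ⟨t, ht⟩ := Submodule.mem_span_singleton.1 hm
      exact hu t ht.symm) inferInstance
    have h0 : φ u = 0 :=
      (Submodule.mem_bot F).1 (hφ ▸ Submodule.mem_map_of_mem (Submodule.mem_span_singleton_self u))
    have hAA : φ (A (A u)) = b⁻¹ * φ (A u) := by
      have := congrArg φ hab
      rw [map_add, map_smul, map_smul, h0, smul_zero, zero_add, smul_eq_mul] at this
      rw [← this, inv_mul_cancel_left₀ hb]
    obtain ⟨c, hc, hcy⟩ : ∃ c : F, c ≠ 0 ∧ ∀ y, σ y = c • y := by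
      refine ⟨2 * b, mul_ne_zero S.two hb, fun y => σ.injective ?_⟩
      have := hquad φ y u
      rw [h0, zero_smul, add_zero, hAA, sub_eq_zero] at this
      rw [map_smul]
      have h3 := congrArg (((φ (A u))⁻¹ * b) • ·) this
      simp only [smul_smul] at h3
      convert h3 using 1
      · rw [show (φ (A u))⁻¹ * b * (b⁻¹ * φ (A u)) = 1 by field_simp, one_smul]
      · congr 1; field_simp
    obtain ⟨t, ht⟩ : ∃ t : U →ₗ[F] U, t = c • A.toLinearMap - LinearMap.id := ⟨_, rfl⟩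
    have htt : ∀ x, t (t x) = 0 := fun x => (Module.forall_dual_apply_eq_zero_iff F _).1 fun ψ => by
      have := hquad ψ x0 x
      simp only [hcy, map_smul, smul_smul, ← sub_smul, ← add_smul, smul_eq_zero, x0_ne, or_false] at this
      simp [ht]
      linear_combination this
    have hiso : ∀ x y, β (c • A x) (c • A y) = β x y := fun x y => by
      obtain ⟨w₁, hw₁⟩ := exists_alp_ne (x0_ne (F := F))
      have e := hσf x0 w₁
      rw [hcy, hcy, alp_smul_left, alp_smul_right] at e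
      have hcc : μ * (c * c) = 1 := mul_right_cancel₀ hw₁ (by rw [one_mul]; linear_combination e)
      simp only [map_smul, LinearMap.smul_apply, smul_eq_mul, hAf]
      linear_combination β x y * hcc
    have hskew : ∀ x y, β (t x) y + β x (t y) = 0 := by
      have h1 : ∀ x y, β (t x) y + β x (t y) + β (t x) (t y) = 0 := fun x y => by
        have := hiso x y
        rw [show c • A x = t x + x by simp [ht], show c • A y = t y + y by simp [ht]] at this
        simp only [map_add, LinearMap.add_apply] at this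
        linear_combination this
      intro x y
      have h2 := h1 x (t y)
      rw [htt, map_zero, map_zero, add_zero, add_zero] at h2
      have h3 := h1 x y
      rwa [h2, add_zero] at h3
    have ht0 := LinearMap.congr_fun (S.skew_sq_zero hskew htt) u
    simp [ht, sub_eq_zero] at ht0
    exact hu c⁻¹ (by conv_rhs => rw [← ht0, smul_smul, inv_mul_cancel₀ hc, one_smul])
  obtain ⟨a, ha⟩ := eq_smul_of_eigen (A := A.toLinearMap) hAs
  let s : W4 F →ₗ[F] W4 F := a • σ.toLinearMap - LinearMap.id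
  have hs : ∀ y u, n (ten y u) = ten (s y) u := fun y u => by
    have e := (hgz (ten y u)).symm.trans (h y u)
    rw [show A u = a • u from ha u, map_smul] at e
    simp only [s, LinearMap.sub_apply, LinearMap.smul_apply, LinearEquiv.coe_coe, LinearMap.id_apply, map_sub,
      map_smul]
    rw [← e, add_sub_cancel_left]
  have hrange : ∀ z, ∃ p : U, n z = k (p, (0, 0), 0) := fun z => ⟨(k.symm z).2.2, by rw [hn]; rfl⟩
  obtain ⟨y₁, hy₁⟩ : ∃ y, s y ≠ 0 := by
    by_contra hall
    push Not at hall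
    have h0 : n = 0 := hom_ext fun y u => by rw [hs, hall, map_zero]; rfl
    obtain ⟨p, hp⟩ := exists_ne (0 : U)
    have : n (k (0, (0, 0), p)) = 0 := by rw [h0]; rfl
    rw [hn, Pair.conjEnd_apply, LinearEquiv.symm_apply_apply, N0_apply, LinearEquiv.map_eq_zero_iff] at this
    exact hp (congrArg Prod.fst this)
  have hline : ∀ y, ∃ t : F, s y = t • s y₁ := by
    intro y
    by_contra hy
    push Not at hy
    let Φ : U × U →ₗ[F] U := (LinearMap.fst F U _) ∘ₗ k.symm.toLinearMap ∘ₗ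
      ((ten (s y)).coprod (ten (s y₁)))
    have hinj : Function.Injective Φ := (injective_iff_map_eq_zero Φ).2 fun ⟨u, v⟩ huv => by
      obtain ⟨p, hp⟩ := hrange (ten y u + ten y₁ v)
      rw [map_add, hs, hs] at hp
      have hp0 : p = 0 := by
        simpa only [Φ, LinearMap.comp_apply, LinearMap.coprod_apply, LinearEquiv.coe_coe, hp,
          LinearEquiv.symm_apply_apply, LinearMap.fst_apply] using huv
      rw [hp0, show ((0 : U), ((0 : U), (0 : U)), (0 : U)) = (0 : V4 U) from rfl, map_zero] at hp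
      obtain ⟨h1, h2⟩ := ten_eq_zero_of_indep (fun s' t' hst => by
        have hs0 : s' = 0 := by
          by_contra hne
          refine hy (-(s'⁻¹ * t')) ?_
          rw [neg_smul, ← smul_smul, ← smul_neg, ← eq_neg_of_add_eq_zero_left hst, smul_smul,
            inv_mul_cancel₀ hne, one_smul]
        rw [hs0, zero_smul, zero_add, smul_eq_zero] at hst
        exact ⟨hs0, hst.resolve_right hy₁⟩) hp
      simp [h1, h2]
    have := LinearMap.finrank_le_finrank_of_injective hinj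
    rw [Module.finrank_prod, S.dim] at this
    omega
  refine S.kr_of_pure hno hk hy₁ fun p => ?_
  obtain ⟨z, hz⟩ : ∃ z : V4 U, z = k ((0, (0, 0), p) : V4 U) := ⟨_, rfl⟩
  have e : k (p, (0, 0), 0) = n z := by
    rw [hn, hz, Pair.conjEnd_apply, LinearEquiv.symm_apply_apply]; rfl
  obtain ⟨t1, h1⟩ := hline (1, (0, 0), 0)
  obtain ⟨t2, h2⟩ := hline (0, (1, 0), 0)
  obtain ⟨t3, h3⟩ := hline (0, (0, 1), 0)
  obtain ⟨t4, h4⟩ := hline (0, (0, 0), 1)
  refine ⟨t1 • z.1 + t2 • z.2.1.1 + t3 • z.2.1.2 + t4 • z.2.2, ?_⟩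
  rw [e]
  conv_lhs => rw [decomp (F := F) z, map_add, map_add, map_add, hs, hs, hs, hs, h1, h2, h3, h4]
  simp only [map_add, map_smul, LinearMap.smul_apply]

/-- The normalised factors of a stabilising element fixing an anisotropic pure vector. -/
theorem fix_form (hno : NoRad M) {g : V4 U ≃ₗ[F] V4 U} (hg : g ∈ M) (hst : Stab g) {u₀ : U}
    (hu : β u₀ u₀ ≠ 0) (hfix : g (u₀, (0, 0), 0) = (u₀, (0, 0), 0)) :
    ∃ (σ : W4 F ≃ₗ[F] W4 F) (A : U ≃ₗ[F] U), σ x0 = x0 ∧ A u₀ = u₀ ∧
      (∀ v w, alp (σ v) (σ w) = alp v w) ∧ (∀ u v, β (A u) (A v) = β u v) ∧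
      ∀ y u, g (ten y u) = ten (σ y) (A u) := by
  obtain ⟨σ, A, h⟩ := S.stab_kr hno hg hst
  have hu0 : u₀ ≠ 0 := fun e => hu (by rw [e, map_zero])
  have h1 : (ten (σ x0) (A u₀)).2 = (0 : (U × U) × U) := by
    rw [← h, ten_x0]; exact hst u₀
  have hA0 : A u₀ ≠ 0 := fun e => hu0 ((LinearEquiv.map_eq_zero_iff A).1 e)
  simp [Prod.ext_iff, hA0] at h1
  obtain ⟨s, hs⟩ : ∃ s, s = (σ x0).1 := ⟨_, rfl⟩
  have hσ0 : σ x0 = s • x0 := by simp [x0, Prod.ext_iff, hs] at h1 ⊢; simp [h1]
  have hs0 : s ≠ 0 := fun e => x0_ne (F := F) ((LinearEquiv.map_eq_zero_iff σ).1 (by rw [hσ0, e, zero_smul]))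
  obtain ⟨σ', hσ'⟩ : ∃ σ' : W4 F ≃ₗ[F] W4 F, ∀ y, σ' y = s⁻¹ • σ y :=
    ⟨σ.trans (LinearEquiv.smulOfNeZero F _ s⁻¹ (inv_ne_zero hs0)), fun y => rfl⟩
  obtain ⟨A', hA'⟩ : ∃ A' : U ≃ₗ[F] U, ∀ u, A' u = s • A u :=
    ⟨A.trans (LinearEquiv.smulOfNeZero F _ s hs0), fun u => rfl⟩
  have h' : ∀ y u, g (ten y u) = ten (σ' y) (A' u) := fun y u => by
    rw [h, hσ', hA', map_smul, map_smul, LinearMap.smul_apply, smul_smul, mul_inv_cancel₀ hs0, one_smul]
  have hσ'0 : σ' x0 = x0 := by rw [hσ', hσ0, smul_smul, inv_mul_cancel₀ hs0, one_smul]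
  have hA'0 : A' u₀ = u₀ := by
    have := h' x0 u₀
    rw [hσ'0, ten_x0, hfix, ten_x0] at this
    exact (congrArg Prod.fst this).symm
  obtain ⟨μ, hμ, hσf, hAf⟩ := S.form hg h'
  have hμ1 : μ = 1 := by
    have := hAf u₀ u₀
    rw [hA'0] at this
    exact mul_right_cancel₀ hu (by rw [one_mul, ← this])
  refine ⟨σ', A', hσ'0, hA'0, fun v w => ?_, fun u v => ?_, h'⟩
  · have := hσf v w; rwa [hμ1, one_mul] at this
  · rw [hAf, hμ1, one_mul]

/-- `p`-elements stabilising the base space and fixing enough are transvections. -/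
theorem mem_uGrp_of_pelt (hno : NoRad M) {p : ℕ} [CharP F p] [Fact p.Prime] {g : V4 U ≃ₗ[F] V4 U}
    (hg : g ∈ M) (hst : Stab g) {u₀ : U} (hu : β u₀ u₀ ≠ 0)
    (hfix : g (u₀, (0, 0), 0) = (u₀, (0, 0), 0)) {k : ℕ} (hk : g ^ p ^ k = 1) {K : Submodule F (V4 U)}
    (hK : 7 ≤ finrank F K) (hKq : ∀ z ∈ K, z.2.2 = 0) (hKf : ∀ z ∈ K, g z = z) :
    g ∈ Pair.uGrp (N0 : Module.End F (V4 U)) N0_sq := by
  haveI := S.finiteDimensional
  haveI := S.nontrivial
  obtain ⟨σ, A, hσ0, hA0, hσf, hAf, h⟩ := S.fix_form hno hg hst hu hfix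
  haveI : CharP (Module.End F U) p := charP_of_injective_algebraMap (algebraMap F (Module.End F U)).injective p
  have hAk : (A.toLinearMap ^ p ^ k : Module.End F U) = 1 := by
    have hx : ∀ j : ℕ, (σ.toLinearMap ^ j) x0 = x0 := fun j => by
      induction j with
      | zero => rfl
      | succ j ih => rw [pow_succ', Module.End.mul_apply, ih]; exact hσ0
    refine LinearMap.ext fun u => ?_
    have := isKr_pow h (p ^ k) x0 u
    rw [hk, hx] at this
    exact ((ten_injective x0_ne) this).symm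
  -- the orthogonal factor is trivial
  obtain ⟨t, htd⟩ : ∃ t : Module.End F U, t = A.toLinearMap - 1 := ⟨_, rfl⟩
  have htap : ∀ x, A x = x + t x := fun x => by simp [htd]
  have htnil : t ^ p ^ k = 0 := by
    rw [htd, sub_pow_char_pow_of_commute p k (Commute.one_right _), one_pow, hAk, sub_self]
  have htW : ∀ x, β u₀ x = 0 → β u₀ (t x) = 0 := fun x hx => by
    have := hAf u₀ x
    rw [hA0, htap, map_add, hx, zero_add] at this
    exact this
  obtain ⟨q, hq, hq0, htq⟩ : ∃ q, β u₀ q = 0 ∧ q ≠ 0 ∧ t q = 0 := by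
    obtain ⟨q₀, hq₀m, hq₀⟩ := Submodule.exists_mem_ne_zero_of_ne_bot
      (LinearMap.ker_ne_bot_of_finrank_lt (f := β u₀) (by rw [finrank_self, S.dim]; norm_num))
    have : ∀ j : ℕ, ∀ q, β u₀ q = 0 → q ≠ 0 → (t ^ j) q = 0 → ∃ r, β u₀ r = 0 ∧ r ≠ 0 ∧ t r = 0 := by
      intro j
      induction j with
      | zero => intro q _ h0 h'; exact absurd (by simpa using h') h0
      | succ j ih =>
        intro q hq h0 h'
        by_cases hz : t q = 0
        · exact ⟨q, hq, h0, hz⟩
        · exact ih (t q) (htW q hq) hz (by rwa [pow_succ, Module.End.mul_apply] at h')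
    exact this (p ^ k) q₀ (LinearMap.mem_ker.1 hq₀m) hq₀ (by rw [htnil]; rfl)
  have htu : t u₀ = 0 := by
    have := htap u₀
    rw [hA0] at this
    simpa using this
  have ht0 : t = 0 := by
    have hker : 2 ≤ finrank F (LinearMap.ker t) := by
      have hli : LinearIndependent F ![u₀, q] := by
        refine LinearIndependent.pair_iff.2 fun a b hab => ?_
        have := congrArg (β u₀) hab
        rw [map_add, map_smul, map_smul, hq, smul_zero, add_zero, map_zero, smul_eq_mul, mul_eq_zero] at this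
        have ha := this.resolve_right hu
        rw [ha, zero_smul, zero_add, smul_eq_zero] at hab
        exact ⟨ha, hab.resolve_right hq0⟩
      have hle : Submodule.span F (Set.range ![u₀, q]) ≤ LinearMap.ker t := by
        rw [Submodule.span_le]
        rintro _ ⟨i, rfl⟩
        fin_cases i <;> simp [htu, htq]
      have := Submodule.finrank_mono hle
      rwa [finrank_span_eq_card hli, Fintype.card_fin] at this
    by_contra hne
    obtain ⟨x₁, hx₁⟩ : ∃ x, t x ≠ 0 := by
      by_contra h'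
      push Not at h'
      exact hne (LinearMap.ext h')
    have hrk : F ∙ t x₁ = LinearMap.range t := by
      refine Submodule.eq_of_le_of_finrank_le ((Submodule.span_singleton_le_iff_mem _ _).2 ⟨x₁, rfl⟩) ?_
      rw [finrank_span_singleton hx₁]
      have := t.finrank_range_add_finrank_ker
      have := S.dim
      omega
    have htt : ∀ x, t (t x) = 0 := by
      obtain ⟨c, hc⟩ := Submodule.mem_span_singleton.1 (hrk ▸ ⟨t x₁, rfl⟩ : t (t x₁) ∈ F ∙ t x₁)
      have hp : ∀ j : ℕ, (t ^ j) (t x₁) = c ^ j • t x₁ := by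
        intro j
        induction j with
        | zero => simp
        | succ j ih => rw [pow_succ', Module.End.mul_apply, ih, map_smul, ← hc, smul_smul, pow_succ]
      have h0 := hp (p ^ k)
      rw [htnil, LinearMap.zero_apply, eq_comm, smul_eq_zero] at h0
      have hc0 : c = 0 := pow_eq_zero_iff'.1 (h0.resolve_right hx₁) |>.1
      intro x
      obtain ⟨d, hd⟩ := Submodule.mem_span_singleton.1 (hrk ▸ ⟨x, rfl⟩ : t x ∈ F ∙ t x₁)
      rw [← hd, map_smul, ← hc, hc0, zero_smul, smul_zero]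
    have h1 : ∀ x y, β (t x) y + β x (t y) + β (t x) (t y) = 0 := fun x y => by
      have := hAf x y
      rw [htap, htap] at this
      simp only [map_add, LinearMap.add_apply] at this
      linear_combination this
    refine hne (S.skew_sq_zero (fun x y => ?_) htt)
    have h2 := h1 x (t y)
    rw [htt, map_zero, map_zero, add_zero, add_zero] at h2
    have h3 := h1 x y
    rwa [h2, add_zero] at h3
  have hA : ∀ u, A u = u := fun u => by rw [htap, ht0]; simp
  -- the symplectic factor is a transvection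
  let n : W4 F →ₗ[F] W4 F := σ.toLinearMap - LinearMap.id
  let L : Submodule F (W4 F) := LinearMap.ker n ⊓
    LinearMap.ker ((LinearMap.snd F (F × F) F).comp (LinearMap.snd F F _))
  have hco : ∀ z ∈ K, ∀ φ : U →ₗ[F] F, co φ z ∈ L := by
    intro z hz φ
    refine ⟨?_, ?_⟩
    · have e : ∀ w : V4 U, co φ (g w) = σ (co φ w) := fun w =>
        LinearMap.congr_fun (hom_ext (f := (co φ).comp g.toLinearMap) (g := σ.toLinearMap.comp (co φ))
          fun y u => by simp only [LinearMap.comp_apply, LinearEquiv.coe_coe, h, co_ten, hA, map_smul]) w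
      show n _ = 0
      simp only [n, LinearMap.sub_apply, LinearEquiv.coe_coe, LinearMap.id_apply, ← e, hKf z hz, sub_self]
    · show φ z.2.2 = 0
      rw [hKq z hz, map_zero]
  let b := Module.finBasisOfFinrankEq F U S.dim
  let Φ : K →ₗ[F] (Fin 3 → L) := LinearMap.pi fun i =>
    ((co (b.coord i)).comp K.subtype).codRestrict L fun z => hco z.1 z.2 _
  have hΦ : Function.Injective Φ := (injective_iff_map_eq_zero Φ).2 fun z hz => by
    have e : ∀ i, co (b.coord i) (z : V4 U) = 0 := fun i => congrArg Subtype.val (congrFun hz i)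
    simp only [co_apply, Prod.ext_iff, Prod.fst_zero, Prod.snd_zero] at e
    have hb : ∀ u : U, (∀ i, b.coord i u = 0) → u = 0 := fun u hu => b.forall_coord_eq_zero_iff.1 hu
    exact Subtype.ext (Prod.ext (hb _ fun i => (e i).1) (Prod.ext (Prod.ext (hb _ fun i => (e i).2.1.1)
      (hb _ fun i => (e i).2.1.2)) (hb _ fun i => (e i).2.2)))
  have hd := LinearMap.finrank_le_finrank_of_injective hΦ
  rw [Module.finrank_pi_fintype, Finset.sum_const, Finset.card_univ, Fintype.card_fin, smul_eq_mul] at hd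
  have hL3 : finrank F (LinearMap.ker ((LinearMap.snd F (F × F) F).comp (LinearMap.snd F F _))) ≤
      finrank F L := by
    have := ((LinearMap.snd F (F × F) F).comp (LinearMap.snd F F _)).finrank_range_add_finrank_ker
    have hW : finrank F (W4 F) = 4 := by simp [Module.finrank_prod]
    have hr : LinearMap.range ((LinearMap.snd F (F × F) F).comp (LinearMap.snd F F _)) = ⊤ :=
      LinearMap.range_eq_top.2 fun c => ⟨(0, (0, 0), c), rfl⟩
    rw [hr, finrank_top, finrank_self, hW] at this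
    omega
  have hLeq := Submodule.eq_of_le_of_finrank_le (inf_le_right : L ≤ _) hL3
  have hn : ∀ w : W4 F, w.2.2 = 0 → n w = 0 := fun w hw => (hLeq.ge (LinearMap.mem_ker.2 hw)).1
  obtain ⟨y, hy⟩ : ∃ y, y = n (0, (0, 0), 1) := ⟨_, rfl⟩
  have hnw : ∀ w : W4 F, n w = w.2.2 • y := fun w => by
    rw [hy, ← map_smul, ← sub_eq_zero, ← map_sub]
    exact hn _ (by simp)
  have hy0 : ∀ w : W4 F, w.2.2 = 0 → alp y w = 0 := fun w hw => by
    have := hσf (0, (0, 0), 1) w
    rw [show σ w = w by have := hn w hw; simpa [n, sub_eq_zero] using this,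
      show σ (0, (0, 0), 1) = (0, (0, 0), 1) + y by simp [hy, n], alp_add_left, add_eq_left] at this
    exact this
  have e1 := hy0 (1, (0, 0), 0) rfl
  have e2 := hy0 (0, (1, 0), 0) rfl
  have e3 := hy0 (0, (0, 1), 0) rfl
  simp [alp] at e1 e2 e3
  refine ⟨y.1, equiv_ext fun w u => ?_⟩
  rw [h, hA, show σ w = w + w.2.2 • y by rw [← hnw]; simp [n]]
  show _ = rl y.1 (ten w u)
  simp [e1, e2, e3, smul_smul, add_smul, mul_comm]

/-- Without non-scalar radical elements every element is a tensor map. -/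
theorem le_kr_of_noRad [Finite (V4 U ≃ₗ[F] V4 U)] (hno : NoRad M) : ∀ g ∈ M, IsKr g := by
  classical
  haveI := S.finite
  haveI := S.finiteDimensional
  haveI := S.nontrivial
  obtain ⟨p, hpc⟩ := CharP.exists F
  haveI := hpc
  haveI : Fact p.Prime := ⟨CharP.char_is_prime F p⟩
  intro g hg
  by_contra hgk
  obtain ⟨u₀, hu⟩ := S.exists_aniso
  obtain ⟨Z, hZ⟩ : ∃ Z, Z = g (u₀, (0, 0), 0) := ⟨_, rfl⟩
  -- a transvection fixing the image
  let L : W4 F →ₗ[F] U :=
    { toFun := fun y => y.2.2 • Z.1 - y.1 • Z.2.2 + (y.2.1.2 • Z.2.1.1 - y.2.1.1 • Z.2.1.2)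
      map_add' := fun v w => by simp only [Prod.fst_add, Prod.snd_add, add_smul]; abel
      map_smul' := fun c v => by
        simp only [Prod.smul_fst, Prod.smul_snd, smul_eq_mul, RingHom.id_apply, smul_add, smul_sub, smul_smul] }
  obtain ⟨y, hyL, hy⟩ := Submodule.exists_mem_ne_zero_of_ne_bot (LinearMap.ker_ne_bot_of_finrank_lt (f := L)
    (by rw [S.dim]; simp [Module.finrank_prod]))
  rw [LinearMap.mem_ker] at hyL
  obtain ⟨σ, hσ, hσ0⟩ := exists_symp hy
  obtain ⟨k, hk⟩ : ∃ k, k = SpFourOThree.kr σ (LinearEquiv.refl F U) := ⟨_, rfl⟩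
  have hkM : k ∈ M := hk ▸ S.krW_mem hσ
  have hkk : IsKr k := by rw [hk]; exact isKr_kr _ _
  have htz : (k * (rl 1 : V4 U ≃ₗ[F] V4 U) * k⁻¹) Z = Z := by
    rw [rl, Pair.conj_un_apply, one_smul, add_eq_left, Pair.conjEnd_apply, hk]
    have e : ((SpFourOThree.kr σ (LinearEquiv.refl F U)).symm Z).2.2 = - L y := by
      have hz : ∀ w : V4 U, L y = 0 → w.2.2 = - ((1 : F) • w.2.2 - (1 : F) • w.2.2) + w.2.2 := by simp
      have key : (LinearMap.snd F (U × U) U ∘ₗ LinearMap.snd F U _ ∘ₗ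
          (SpFourOThree.kr σ (LinearEquiv.refl F U)).symm.toLinearMap) =
          (σ.symm.toLinearMap (1, (0, 0), 0)).2.2 • LinearMap.fst F U _ +
          (σ.symm.toLinearMap (0, (1, 0), 0)).2.2 • (LinearMap.fst F U U ∘ₗ LinearMap.fst F _ U ∘ₗ LinearMap.snd F U _) +
          (σ.symm.toLinearMap (0, (0, 1), 0)).2.2 • (LinearMap.snd F U U ∘ₗ LinearMap.fst F _ U ∘ₗ LinearMap.snd F U _) +
          (σ.symm.toLinearMap (0, (0, 0), 1)).2.2 • (LinearMap.snd F _ U ∘ₗ LinearMap.snd F U _) := by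
        refine LinearMap.ext fun w => ?_
        show ((SpFourOThree.kr σ (LinearEquiv.refl F U)).symm w).2.2 = _
        show (krL σ.symm.toLinearMap (LinearEquiv.refl F U).symm.toLinearMap w).2.2 = _
        simp [krL]
      have hcoef : ∀ w, (σ.symm w).2.2 = alp y w := fun w => by
        have := hσ x0 (σ.symm w)
        rw [hσ0, σ.apply_symm_apply] at this
        rw [this]; simp [alp, x0]
      refine (LinearMap.congr_fun key Z).trans ?_
      simp only [LinearMap.add_apply, LinearMap.smul_apply, LinearMap.comp_apply, LinearMap.fst_apply,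
        LinearMap.snd_apply, LinearEquiv.coe_coe, hcoef, alp, mul_zero, mul_one, sub_zero, zero_sub,
        zero_add, add_zero, L, LinearMap.coe_mk, AddHom.coe_mk]
      module
    rw [N0_apply, e, hyL, neg_zero]
    exact (SpFourOThree.kr σ (LinearEquiv.refl F U)).map_zero
  obtain ⟨g', hg'⟩ : ∃ g', g' = g⁻¹ * k := ⟨_, rfl⟩
  have hg'M : g' ∈ M := hg' ▸ M.mul_mem (M.inv_mem hg) hkM
  obtain ⟨e, he⟩ : ∃ e, e = g' * (rl 1 : V4 U ≃ₗ[F] V4 U) * g'⁻¹ := ⟨_, rfl⟩
  have heM : e ∈ M := he ▸ M.mul_mem (M.mul_mem hg'M (S.rl_mem 1)) (M.inv_mem hg'M)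
  have hefix : e (u₀, (0, 0), 0) = (u₀, (0, 0), 0) := by
    rw [he, hg', show g⁻¹ * k * rl 1 * (g⁻¹ * k)⁻¹ = g⁻¹ * (k * (rl 1 : V4 U ≃ₗ[F] V4 U) * k⁻¹) * g by group,
      LinearEquiv.mul_apply, LinearEquiv.mul_apply, ← hZ, htz, hZ]
    exact g.symm_apply_apply _
  have hek : ¬ IsKr e := fun h => hgk (by
    have h1 := S.kr_of_conj hno hg'M (he ▸ h)
    rw [hg'] at h1
    have h2 := hkk.mul h1.inv
    rwa [mul_inv_rev, inv_inv, mul_inv_cancel_left] at h2)
  -- the space fixed by the pair group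
  let Λ : V4 U →ₗ[F] U × U :=
    ((LinearMap.snd F (U × U) U).comp (LinearMap.snd F U _)).prod
      (((LinearMap.snd F (U × U) U).comp (LinearMap.snd F U _)).comp e.symm.toLinearMap)
  have hK7 : 7 ≤ finrank F (LinearMap.ker Λ) := by
    let f : U × U →ₗ[F] F := (β u₀).coprod (-(β u₀))
    have hle : LinearMap.range Λ ≤ LinearMap.ker f := by
      rintro _ ⟨z, rfl⟩
      have h1 := S.iso e heM (u₀, (0, 0), 0) (e.symm z)
      rw [hefix, e.apply_symm_apply] at h1
      simp [Om] at h1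
      simp [f, Λ, h1]
    have h1 := Submodule.finrank_mono hle
    have h2 := Λ.finrank_range_add_finrank_ker
    have h3 := f.finrank_range_add_finrank_ker
    have h4 : LinearMap.range f = ⊤ := LinearMap.range_eq_top.2 fun c =>
      ⟨((c / β u₀ u₀) • u₀, 0), by simp [f, hu]⟩
    rw [h4, finrank_top, finrank_self, Module.finrank_prod, S.dim] at h3
    simp only [Module.finrank_prod, S.dim] at h2
    omega
  have hN0z : ∀ z : V4 U, z.2.2 = 0 → (N0 : Module.End F (V4 U)) z = 0 := fun z hz => by rw [N0_apply, hz]; rfl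
  have hJfix : ∀ n ∈ Pair.join (N0 : Module.End F (V4 U)) N0_sq e,
      n (u₀, (0, 0), 0) = (u₀, (0, 0), 0) ∧ ∀ z ∈ LinearMap.ker Λ, n z = z := by
    intro n hn
    refine ⟨Pair.join_fix _ _ e hn (hN0z _ rfl) ?_, fun z hz => ?_⟩
    · rw [Pair.conjEnd_apply, show e.symm (u₀, (0, 0), 0) = (u₀, (0, 0), 0) from e.symm_apply_eq.2 hefix.symm,
        hN0z _ rfl, map_zero]
    · have h' := LinearMap.mem_ker.1 hz
      refine Pair.join_fix _ _ e hn (hN0z _ (congrArg Prod.fst h')) ?_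
      have hs : (e.symm z).2.2 = 0 := congrArg Prod.snd h'
      rw [Pair.conjEnd_apply, hN0z _ hs, map_zero]
  have hJM : Pair.join (N0 : Module.End F (V4 U)) N0_sq e ≤ M :=
    Pair.join_le _ _ e (fun l => S.rl_mem l) fun l => M.mul_mem (M.mul_mem heM (S.rl_mem l)) (M.inv_mem heM)
  have hstab : ∀ n : V4 U ≃ₗ[F] V4 U, n * rl 1 * n⁻¹ ∈ Pair.uGrp (N0 : Module.End F (V4 U)) N0_sq → Stab n := by
    rintro n ⟨l, hl⟩ q
    have := LinearEquiv.congr_fun (mul_inv_eq_iff_eq_mul.1 hl) ((0, (0, 0), q) : V4 U)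
    simp only [LinearEquiv.mul_apply, rl_apply, one_smul, zero_add, Pair.un_apply, N0_apply] at this
    rw [show ((q, (0, 0), q) : V4 U) = (q, (0, 0), 0) + (0, (0, 0), q) by simp, map_add, add_comm,
      add_left_cancel_iff] at this
    rw [this]
    simp [Prod.smul_mk]
  have hend := Pair.conj_mem_of_local (N0 : Module.End F (V4 U)) N0_sq e S.card S.two (fun h => by
    obtain ⟨u, hu'⟩ := exists_ne (0 : U)
    exact hu' (congrArg Prod.fst (LinearMap.congr_fun h ((0, (0, 0), u) : V4 U)))) (p := p) ?_ ?_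
  · exact hek (S.stab_kr hno heM (hstab e hend))
  · intro P hPJ hP hXP
    let C : Subgroup P := (Pair.uGrp (N0 : Module.End F (V4 U)) N0_sq).subgroupOf P
    suffices hall : ∀ w : P, w ∈ C from fun z hz => Subgroup.mem_subgroupOf.1 (hall ⟨z, hz⟩)
    by_contra hne
    push Not at hne
    haveI : Group.IsNilpotent P := hP.isNilpotent
    obtain ⟨x, hx⟩ := hne
    have hlt : C < ⊤ := lt_top_iff_ne_top.2 fun h => hx (h ▸ Subgroup.mem_top x)
    obtain ⟨w, hw, hwC⟩ := SetLike.exists_of_lt (Group.normalizerCondition_of_isNilpotent _ hlt)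
    have hrl : (⟨rl 1, hXP (Pair.un_mem _ _ 1)⟩ : P) ∈ C := Subgroup.mem_subgroupOf.2 (Pair.un_mem _ _ 1)
    have h1 := Subgroup.mem_subgroupOf.1 ((Subgroup.mem_normalizer_iff.1 hw _).1 hrl)
    obtain ⟨j, hj⟩ := hP w
    obtain ⟨hf, hfK⟩ := hJfix _ (hPJ w.2)
    exact hwC (Subgroup.mem_subgroupOf.2 (S.mem_uGrp_of_pelt hno (hJM (hPJ w.2)) (hstab _ h1) hu hf
      (congrArg Subtype.val hj) hK7 (fun z hz => congrArg Prod.fst (LinearMap.mem_ker.1 hz)) hfK))
  · intro n hn hX l
    obtain ⟨σ', A', hσ'0, -, hσ'f, -, h'⟩ := S.fix_form hno (hJM hn) (hstab n hX) hu (hJfix n hn).1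
    show n * rl l = rl l * n
    refine equiv_ext fun w u => ?_
    rw [LinearEquiv.mul_apply, LinearEquiv.mul_apply, h', rl_eq_kr, kr_ten, kr_ten, h']
    congr 2
    · simp only [tv_apply, map_add, map_smul, hσ'0]
      conv_lhs => rw [← hσ'f w x0, hσ'0]
    all_goals rfl

end Setup

end Cfsg.Agent.Lib.SpFourOThree
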