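import Cfsg.Agent.Lib.SpFourOThree.Basic

/-!
Without non-scalar radical elements, the stabiliser of a pure subspace consists of tensor maps.
-/

set_option autoImplicit false
set_option linter.unusedSectionVars false

namespace Cfsg.Agent.Lib.SpFourOThree

open Module

variable {F U : Type*} [Field F] [AddCommGroup U] [Module F U]
  {β : LinearMap.BilinForm F U} {M : Subgroup (V4 U ≃ₗ[F] V4 U)}

/-- An element of the radical of the base point with middle part `(R₁, R₂)`. -/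
def InQ (g : V4 U ≃ₗ[F] V4 U) (R₁ R₂ : U →ₗ[F] U) : Prop :=
  (∀ p, g (p, (0, 0), 0) = (p, (0, 0), 0)) ∧
    ∀ z, (g z).2 = ((z.2.1.1 + R₁ z.2.2, z.2.1.2 + R₂ z.2.2), z.2.2)

theorem InQ.mul {g h : V4 U ≃ₗ[F] V4 U} {R₁ R₂ S₁ S₂ : U →ₗ[F] U} (hg : InQ g R₁ R₂) (hh : InQ h S₁ S₂) :
    InQ (g * h) (R₁ + S₁) (R₂ + S₂) := by
  refine ⟨fun p => by rw [LinearEquiv.mul_apply, hh.1, hg.1], fun z => ?_⟩
  rw [LinearEquiv.mul_apply, hg.2, hh.2]
  simp only [LinearMap.add_apply]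
  exact Prod.ext (Prod.ext (by simp only; abel) (by simp only; abel)) rfl

theorem InQ.inv {g : V4 U ≃ₗ[F] V4 U} {R₁ R₂ : U →ₗ[F] U} (hg : InQ g R₁ R₂) : InQ g⁻¹ (-R₁) (-R₂) := by
  refine ⟨fun p => g.injective ?_, fun z => ?_⟩
  · rw [hg.1]
    exact g.apply_symm_apply _
  · have h := hg.2 (g⁻¹ z)
    rw [show g (g⁻¹ z) = z from g.apply_symm_apply z] at h
    rw [h]
    simp

/-- The symplectic transformations in the radical at the base point. -/
def sig (c₁ c₂ : F) : W4 F ≃ₗ[F] W4 F where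
  toFun w := (w.1 + c₁ * w.2.1.2 - c₂ * w.2.1.1, (w.2.1.1 + c₁ * w.2.2, w.2.1.2 + c₂ * w.2.2), w.2.2)
  map_add' v w := by simp [Prod.ext_iff]; refine ⟨?_, ?_, ?_⟩ <;> ring
  map_smul' a w := by simp [Prod.ext_iff]; refine ⟨?_, ?_, ?_⟩ <;> ring
  invFun w := (w.1 - c₁ * (w.2.1.2 - c₂ * w.2.2) + c₂ * (w.2.1.1 - c₁ * w.2.2),
    (w.2.1.1 - c₁ * w.2.2, w.2.1.2 - c₂ * w.2.2), w.2.2)
  left_inv w := by simp [Prod.ext_iff]; ring
  right_inv w := by simp [Prod.ext_iff]; ring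

theorem sig_apply (c₁ c₂ : F) (w : W4 F) : sig c₁ c₂ w =
    (w.1 + c₁ * w.2.1.2 - c₂ * w.2.1.1, (w.2.1.1 + c₁ * w.2.2, w.2.1.2 + c₂ * w.2.2), w.2.2) := rfl

theorem sig_iso (c₁ c₂ : F) (v w : W4 F) : alp (sig c₁ c₂ v) (sig c₁ c₂ w) = alp v w := by
  simp [alp, sig_apply]; ring

/-- The action of a symplectic plane matrix in the middle. -/
def mid (a b c d : F) (h : a * d - b * c = 1) : W4 F ≃ₗ[F] W4 F where
  toFun w := (w.1, (a * w.2.1.1 + b * w.2.1.2, c * w.2.1.1 + d * w.2.1.2), w.2.2)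
  map_add' v w := by simp [Prod.ext_iff]; constructor <;> ring
  map_smul' t w := by simp [Prod.ext_iff]; constructor <;> ring
  invFun w := (w.1, (d * w.2.1.1 - b * w.2.1.2, -c * w.2.1.1 + a * w.2.1.2), w.2.2)
  left_inv w := by
    refine Prod.ext rfl (Prod.ext (Prod.ext ?_ ?_) rfl)
    · linear_combination w.2.1.1 * h
    · linear_combination w.2.1.2 * h
  right_inv w := by
    refine Prod.ext rfl (Prod.ext (Prod.ext ?_ ?_) rfl)
    · linear_combination w.2.1.1 * h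
    · linear_combination w.2.1.2 * h

theorem mid_apply (a b c d : F) (h : a * d - b * c = 1) (w : W4 F) : mid a b c d h w =
    (w.1, (a * w.2.1.1 + b * w.2.1.2, c * w.2.1.1 + d * w.2.1.2), w.2.2) := rfl

theorem mid_iso (a b c d : F) (h : a * d - b * c = 1) (v w : W4 F) :
    alp (mid a b c d h v) (mid a b c d h w) = alp v w := by
  simp only [alp, mid_apply]
  linear_combination (v.2.1.1 * w.2.1.2 - v.2.1.2 * w.2.1.1) * h

theorem kr_apply (σ : W4 F ≃ₗ[F] W4 F) (A : U ≃ₗ[F] U) (z : V4 U) :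
    kr σ A z = ten (σ (1, (0, 0), 0)) (A z.1) + ten (σ (0, (1, 0), 0)) (A z.2.1.1) +
      ten (σ (0, (0, 1), 0)) (A z.2.1.2) + ten (σ (0, (0, 0), 1)) (A z.2.2) := rfl

theorem inQ_sig (c₁ c₂ : F) :
    InQ (kr (sig c₁ c₂) (LinearEquiv.refl F U)) (c₁ • LinearMap.id) (c₂ • LinearMap.id) :=
  ⟨fun p => by simp [kr_apply, sig_apply], fun z => by simp [kr_apply, sig_apply, Prod.ext_iff]⟩

theorem inQ_mid_conj {g : V4 U ≃ₗ[F] V4 U} {R₁ R₂ : U →ₗ[F] U} (hg : InQ g R₁ R₂) (a b c d : F)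
    (h : a * d - b * c = 1) :
    InQ (kr (mid a b c d h) (LinearEquiv.refl F U) * g * (kr (mid a b c d h) (LinearEquiv.refl F U))⁻¹)
      (a • R₁ + b • R₂) (c • R₁ + d • R₂) := by
  obtain ⟨K, hK⟩ : ∃ K, K = kr (mid a b c d h) (LinearEquiv.refl F U) := ⟨_, rfl⟩
  have hKz : ∀ z : V4 U, K z = (z.1, (a • z.2.1.1 + b • z.2.1.2, c • z.2.1.1 + d • z.2.1.2), z.2.2) :=
    fun z => by simp [hK, kr_apply, mid_apply]
  rw [← hK]
  refine ⟨fun p => ?_, fun z => ?_⟩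
  · have e : K⁻¹ (p, (0, 0), 0) = ((p, (0, 0), 0) : V4 U) := K.injective (by
      rw [hKz (p, (0, 0), 0)]
      refine (K.apply_symm_apply _).trans ?_
      simp)
    rw [LinearEquiv.mul_apply, LinearEquiv.mul_apply, e, hg.1, hKz]
    simp
  · obtain ⟨w, rfl⟩ := K.surjective z
    rw [LinearEquiv.mul_apply, LinearEquiv.mul_apply, show K⁻¹ (K w) = w from K.symm_apply_apply w, hKz, hKz,
      hg.2]
    simp only [LinearMap.add_apply, LinearMap.smul_apply, smul_add]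
    exact Prod.ext (Prod.ext (by simp only; abel) (by simp only; abel)) rfl

theorem mk_split (z : V4 U) :
    z = ((z.1, (0, 0), 0) : V4 U) + (0, z.2.1, 0) + (0, (0, 0), z.2.2) := by simp [Prod.ext_iff]

namespace Setup

variable (S : Setup β M)
include S

/-- Commutators in the radical. -/
theorem inQ_comm (hno : NoRad M) {g h : V4 U ≃ₗ[F] V4 U} (hg : g ∈ M) (hh : h ∈ M) {R₁ R₂ S₁ S₂ : U →ₗ[F] U}
    (hgQ : InQ g R₁ R₂) (hhQ : InQ h S₁ S₂) : ∃ e : F, ∀ x y,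
      β (R₁ x) (S₂ y) - β (R₂ x) (S₁ y) + β (S₂ x) (R₁ y) - β (S₁ x) (R₂ y) = e * β x y := by
  have hψ : ∀ {f : V4 U ≃ₗ[F] V4 U} {A B : U →ₗ[F] U}, f ∈ M → InQ f A B → ∀ (z : V4 U) (y : U),
      β (f z).1 y = β z.1 y + β (f (0, (0, 0), z.2.2)).1 y - β z.2.1.1 (B y) + β z.2.1.2 (A y) := by
    intro f A B hf hQ z y
    have h1 := S.iso f hf ((0, z.2.1, 0) : V4 U) (0, (0, 0), y)
    simp [Om, hQ.2] at h1
    conv_lhs => rw [mk_split z, map_add, map_add, hQ.1]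
    simp only [Prod.fst_add, map_add, LinearMap.add_apply]
    linear_combination h1
  obtain ⟨K, hK⟩ : ∃ K, K = g * h * (h * g)⁻¹ := ⟨_, rfl⟩
  have hKQ : InQ K 0 0 := by
    have := (hgQ.mul hhQ).mul (hhQ.mul hgQ).inv
    rw [add_comm R₁ S₁, add_comm R₂ S₂, add_neg_cancel, add_neg_cancel, ← hK] at this
    exact this
  have hKM : K ∈ M := hK ▸ M.mul_mem (M.mul_mem hg hh) (M.inv_mem (M.mul_mem hh hg))
  obtain ⟨T, hT⟩ : ∃ T : U →ₗ[F] U, T = (LinearMap.fst F U _) ∘ₗ K.toLinearMap ∘ₗ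
      (LinearMap.inr F U _) ∘ₗ (LinearMap.inr F (U × U) U) := ⟨_, rfl⟩
  have hTap : ∀ q, T q = (K (0, (0, 0), q)).1 := fun q => by rw [hT]; rfl
  have hKrad : K = rad T := by
    refine LinearEquiv.ext fun z => Prod.ext ?_ (by simpa using hKQ.2 z)
    refine sub_eq_zero.1 (S.nondeg _ fun y => ?_)
    rw [map_sub, LinearMap.sub_apply, hψ hKM hKQ, rad_apply, hTap]
    simp only [LinearMap.zero_apply, map_zero, map_add, LinearMap.add_apply]
    ring
  obtain ⟨e, he⟩ := hno T (hKrad ▸ hKM)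
  refine ⟨e, fun x y => ?_⟩
  have h1 : g (h (0, (0, 0), x)) = K (h (g (0, (0, 0), x))) := by
    rw [← LinearEquiv.mul_apply, ← LinearEquiv.mul_apply, ← LinearEquiv.mul_apply, mul_assoc K, hK,
      inv_mul_cancel_right]
  have h2 := congrArg (fun z : V4 U => β z.1 y) h1
  simp only [hKrad, rad_apply, map_add, LinearMap.add_apply, he, map_smul, LinearMap.smul_apply,
    smul_eq_mul] at h2
  rw [hψ hg hgQ (h _), hψ hh hhQ (g _)] at h2
  simp only [hhQ.2, hgQ.2, zero_add] at h2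
  linear_combination h2

/-- No skew parts in the radical. -/
theorem inQ_skew (hno : NoRad M) {g : V4 U ≃ₗ[F] V4 U} (hg : g ∈ M) {R₁ R₂ : U →ₗ[F] U}
    (h1 : ∀ x y, β (R₁ x) y + β x (R₁ y) = 0) (hgQ : InQ g R₁ R₂) : R₂ = 0 → R₁ = 0 := by
  intro h20
  subst h20
  have hm : (0 : F) * 0 - (-1) * 1 = 1 := by ring
  have hgQ' := inQ_mid_conj hgQ 0 (-1) 1 0 hm
  have hM : SpFourOThree.kr (mid 0 (-1) 1 0 hm) (LinearEquiv.refl F U) ∈ M := S.krW_mem (mid_iso _ _ _ _ _)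
  obtain ⟨e, he⟩ := S.inQ_comm hno hg (M.mul_mem (M.mul_mem hM hg) (M.inv_mem hM)) hgQ hgQ'
  refine S.skew_scalar h1 (e := e / 2) fun x y => ?_
  have h := he x y
  simp at h
  field_simp [S.two]
  linear_combination h

/-- Elements of the radical in `M` have scalar middle part. -/
theorem inQ_scalar (hno : NoRad M) {g : V4 U ≃ₗ[F] V4 U} (hg : g ∈ M) {R₁ R₂ : U →ₗ[F] U}
    (hgQ : InQ g R₁ R₂) : ∃ c₁ c₂ : F, (∀ x, R₁ x = c₁ • x) ∧ ∀ x, R₂ x = c₂ • x := by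
  have hs : ∀ a b : F, SpFourOThree.kr (sig a b) (LinearEquiv.refl F U) ∈ M := fun a b => S.krW_mem (sig_iso a b)
  obtain ⟨e₂, he₂⟩ := S.inQ_comm hno hg (hs 1 0) hgQ (inQ_sig 1 0)
  obtain ⟨e₁, he₁⟩ := S.inQ_comm hno hg (hs 0 1) hgQ (inQ_sig 0 1)
  refine ⟨e₁ / 2, -e₂ / 2, ?_⟩
  obtain ⟨K₁, hK₁⟩ : ∃ K₁, K₁ = R₁ + -((e₁ / 2) • LinearMap.id) := ⟨_, rfl⟩
  obtain ⟨K₂, hK₂⟩ : ∃ K₂, K₂ = R₂ + -((-e₂ / 2) • LinearMap.id) := ⟨_, rfl⟩
  have h1 : ∀ x y, β (K₁ x) y + β x (K₁ y) = 0 := fun x y => by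
    have h := he₁ x y
    simp at h
    simp [hK₁]
    field_simp [S.two]
    linear_combination 2 * h
  have h2 : ∀ x y, β (K₂ x) y + β x (K₂ y) = 0 := fun x y => by
    have h := he₂ x y
    simp at h
    simp [hK₂]
    field_simp [S.two]
    linear_combination (-2) * h
  obtain ⟨g', hg'M, hg'Q⟩ : ∃ g' ∈ M, InQ g' K₁ K₂ := ⟨_, M.mul_mem hg (M.inv_mem (hs _ _)),
    hK₁ ▸ hK₂ ▸ hgQ.mul (inQ_sig (e₁ / 2) (-e₂ / 2)).inv⟩
  have key : ∀ {f : V4 U ≃ₗ[F] V4 U} {A B : U →ₗ[F] U}, f ∈ M → InQ f A B →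
      (∀ x y, β (B x) y + β x (B y) = 0) → B = 0 := by
    intro f A B hf hQ hB
    have hm : (1 : F) * 1 - 1 * 0 = 1 := by ring
    have hM : SpFourOThree.kr (mid 1 1 0 1 hm) (LinearEquiv.refl F U) ∈ M := S.krW_mem (mid_iso _ _ _ _ _)
    have hQ' := (inQ_mid_conj hQ 1 1 0 1 hm).mul hQ.inv
    refine S.inQ_skew hno (M.mul_mem (M.mul_mem (M.mul_mem hM hf) (M.inv_mem hM)) (M.inv_mem hf))
      hB (R₂ := 0) ?_ rfl
    simpa using hQ'
  have hK20 := key hg'M hg'Q h2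
  have hK10 : K₁ = 0 := S.inQ_skew hno hg'M h1 hg'Q hK20
  constructor
  · intro x
    have := LinearMap.congr_fun (hK₁.symm.trans hK10) x
    simpa [← sub_eq_add_neg, sub_eq_zero] using this
  · intro x
    have := LinearMap.congr_fun (hK₂.symm.trans hK20) x
    simpa [← sub_eq_add_neg, sub_eq_zero] using this

/-- Elements of the radical in `M` are tensor maps. -/
theorem inQ_kr (hno : NoRad M) {g : V4 U ≃ₗ[F] V4 U} (hg : g ∈ M) {R₁ R₂ : U →ₗ[F] U}
    (hgQ : InQ g R₁ R₂) : IsKr g := by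
  obtain ⟨c₁, c₂, h1, h2⟩ := S.inQ_scalar hno hg hgQ
  obtain ⟨K, hK⟩ : ∃ K, K = (SpFourOThree.kr (sig c₁ c₂) (LinearEquiv.refl F U))⁻¹ * g := ⟨_, rfl⟩
  have hKM : K ∈ M := hK ▸ M.mul_mem (M.inv_mem (S.krW_mem (sig_iso c₁ c₂))) hg
  have hKQ : InQ K 0 0 := by
    have := (inQ_sig (U := U) c₁ c₂).inv.mul hgQ
    rw [show R₁ = c₁ • LinearMap.id from LinearMap.ext fun x => by simp [h1],
      show R₂ = c₂ • LinearMap.id from LinearMap.ext fun x => by simp [h2], neg_add_cancel, neg_add_cancel,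
      ← hK] at this
    exact this
  have hK2 : ∀ z, (K z).2 = z.2 := fun z => by simpa using hKQ.2 z
  obtain ⟨T, hT⟩ : ∃ T : U →ₗ[F] U, T = (LinearMap.fst F U _) ∘ₗ K.toLinearMap ∘ₗ
      (LinearMap.inr F U _) ∘ₗ (LinearMap.inr F (U × U) U) := ⟨_, rfl⟩
  have hTap : ∀ q, T q = (K (0, (0, 0), q)).1 := fun q => by rw [hT]; rfl
  have hKrad : K = rad T := by
    refine LinearEquiv.ext fun z => Prod.ext ?_ (by simp [hK2])
    refine sub_eq_zero.1 (S.nondeg _ fun y => ?_)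
    have h := S.iso K hKM (0, z.2.1, 0) (0, (0, 0), y)
    simp [Om, hK2] at h
    conv_lhs => rw [mk_split z, map_add, map_add, hKQ.1]
    simp only [Prod.fst_add, map_add, LinearMap.add_apply, rad_apply, hTap, map_sub, LinearMap.sub_apply]
    rw [show K ((0 : U), ((0 : U), (0 : U)), (0 : U)) = 0 from K.map_zero] at *
    simp only [Prod.fst_zero, map_zero, LinearMap.zero_apply] at *
    linear_combination h
  obtain ⟨e, he⟩ := hno T (hKrad ▸ hKM)
  have hrl : K = rl e := hKrad ▸ LinearEquiv.ext fun z => by simp [he]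
  have h := (isKr_kr (sig c₁ c₂) (LinearEquiv.refl F U)).mul (rl_eq_kr (U := U) e ▸ isKr_kr _ _)
  rwa [← hrl, hK, mul_inv_cancel_left] at h

/-- The stabiliser of the base space consists of tensor maps. -/
theorem stab_kr (hno : NoRad M) {g : V4 U ≃ₗ[F] V4 U} (hg : g ∈ M) (hs : Stab g) : IsKr g := by
  haveI := S.finiteDimensional
  haveI := S.nontrivial
  let α : U →ₗ[F] U := (LinearMap.fst F U _) ∘ₗ g.toLinearMap ∘ₗ (LinearMap.inl F U _)
  have hα : ∀ p, g (p, (0, 0), 0) = (α p, (0, 0), 0) := fun p => Prod.ext rfl (hs p)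
  have hαinj : Function.Injective α := (injective_iff_map_eq_zero α).2 fun p hp => by
    have h : g (p, (0, 0), 0) = g 0 := by rw [hα, hp, map_zero]; rfl
    exact congrArg Prod.fst (g.injective h)
  have hαsur : Function.Surjective α := LinearMap.injective_iff_surjective.1 hαinj
  let δ : U →ₗ[F] U := (LinearMap.snd F (U × U) U) ∘ₗ (LinearMap.snd F U _) ∘ₗ g.toLinearMap ∘ₗ
    (LinearMap.inr F U _) ∘ₗ (LinearMap.inr F (U × U) U)
  have hq : ∀ z, (g z).2.2 = δ z.2.2 := fun z => by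
    have h0 : (g (0, z.2.1, 0)).2.2 = 0 := S.nondeg _ fun y => by
      obtain ⟨p, rfl⟩ := hαsur y
      have h := S.iso g hg (0, z.2.1, 0) (p, (0, 0), 0)
      simp [hα, Om] at h
      exact h
    conv_lhs => rw [mk_split z, map_add, map_add, hα]
    simp [h0, δ]
    rfl
  have hαδ : ∀ p q, β (α p) (δ q) = β p q := fun p q => by
    have h := S.iso g hg (p, (0, 0), 0) (0, (0, 0), q)
    simpa [hα, Om, hq] using h
  have hδinj : Function.Injective δ := (injective_iff_map_eq_zero δ).2 fun q hq0 => S.nondeg _ fun y => by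
    rw [S.symm, ← hαδ, hq0, map_zero]
  let D : U ≃ₗ[F] U := LinearEquiv.ofBijective δ ⟨hδinj, LinearMap.injective_iff_surjective.1 hδinj⟩
  have hD : ∀ q, D q = δ q := fun q => rfl
  have hrad : g * rl 1 * g⁻¹ = rad (α ∘ₗ D.symm.toLinearMap) := by
    rw [mul_inv_eq_iff_eq_mul]
    refine LinearEquiv.ext fun z => ?_
    rw [LinearEquiv.mul_apply, LinearEquiv.mul_apply, rl_apply, rad_apply,
      show ((z.1 + (1 : F) • z.2.2, z.2) : V4 U) = z + (z.2.2, (0, 0), 0) by simp [Prod.ext_iff], map_add, hα,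
      hq, LinearMap.comp_apply α D.symm.toLinearMap, LinearEquiv.coe_coe, ← hD, LinearEquiv.symm_apply_apply]
    simp [Prod.ext_iff]
  obtain ⟨κ, hκ'⟩ := hno _ (hrad ▸ M.mul_mem (M.mul_mem hg (S.rl_mem 1)) (M.inv_mem hg))
  have hκ : ∀ p, α p = κ • D p := fun p => by
    have h := hκ' (D p)
    rwa [LinearMap.comp_apply, LinearEquiv.coe_coe, LinearEquiv.symm_apply_apply] at h
  have hκ0 : κ ≠ 0 := fun h => by
    obtain ⟨u, hu⟩ := exists_ne (0 : U)
    exact hu (hαinj (by rw [hκ, h, zero_smul, map_zero]))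
  have hiso : ∀ x y, κ * β (D x) (D y) = β x y := fun x y => by
    rw [← hαδ x y, hκ, hD y, map_smul, LinearMap.smul_apply, smul_eq_mul]
  -- removing the diagonal part
  let σ : W4 F ≃ₗ[F] W4 F :=
    { toFun := fun w => (κ * w.1, (κ * w.2.1.1, w.2.1.2), w.2.2)
      map_add' := fun v w => by simp [Prod.ext_iff]; constructor <;> ring
      map_smul' := fun t w => by simp [Prod.ext_iff]; constructor <;> ring
      invFun := fun w => (κ⁻¹ * w.1, (κ⁻¹ * w.2.1.1, w.2.1.2), w.2.2)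
      left_inv := fun w => by simp [hκ0]
      right_inv := fun w => by simp [hκ0] }
  have hσap : ∀ w, σ w = (κ * w.1, (κ * w.2.1.1, w.2.1.2), w.2.2) := fun w => rfl
  have hh₀M : SpFourOThree.kr σ D ∈ M := S.kr_mem (c := κ) (fun v w => by simp only [alp, hσap]; ring) hiso
  obtain ⟨g₁, hg₁⟩ : ∃ g₁, g₁ = (SpFourOThree.kr σ D)⁻¹ * g := ⟨_, rfl⟩
  have hg₁M : g₁ ∈ M := hg₁ ▸ M.mul_mem (M.inv_mem hh₀M) hg
  have hgg : ∀ z, g z = SpFourOThree.kr σ D (g₁ z) := fun z => by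
    rw [hg₁, LinearEquiv.mul_apply]
    exact ((SpFourOThree.kr σ D).apply_symm_apply _).symm
  have hkrz : ∀ z : V4 U, SpFourOThree.kr σ D z = (κ • D z.1, (κ • D z.2.1.1, D z.2.1.2), D z.2.2) := fun z => by
    simp [kr_apply, hσap]
  have h1p : ∀ p, g₁ (p, (0, 0), 0) = (p, (0, 0), 0) := fun p => (SpFourOThree.kr σ D).injective (by
    rw [← hgg, hα, hkrz, hκ]; simp)
  have h1q : ∀ z, (g₁ z).2.2 = z.2.2 := fun z => D.injective (by
    have := congrArg (fun w : V4 U => w.2.2) (hgg z)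
    simp only [hkrz, hq] at this
    exact this.symm)
  -- the middle
  let h₁ : U × U →ₗ[F] U × U := (LinearMap.fst F (U × U) U) ∘ₗ (LinearMap.snd F U _) ∘ₗ g₁.toLinearMap ∘ₗ
    (LinearMap.inr F U _) ∘ₗ (LinearMap.inl F (U × U) U)
  have hm : ∀ z, (g₁ z).2.1 = h₁ z.2.1 + (g₁ (0, (0, 0), z.2.2)).2.1 := fun z => by
    conv_lhs => rw [mk_split z, map_add, map_add, h1p]
    simp [h₁]
  have hscal : ∀ a b : F, ∃ a' b' : F, ∀ u, h₁ (a • u, b • u) = (a' • u, b' • u) := by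
    intro a b
    let R : U →ₗ[F] U × U := h₁ ∘ₗ ((a • LinearMap.id).prod (b • LinearMap.id))
    have hKM : SpFourOThree.kr (sig a b) (LinearEquiv.refl F U) ∈ M := S.krW_mem (sig_iso a b)
    have hQ : InQ (g₁ * SpFourOThree.kr (sig a b) (LinearEquiv.refl F U) * g₁⁻¹)
        ((LinearMap.fst F U U) ∘ₗ R) ((LinearMap.snd F U U) ∘ₗ R) := by
      refine ⟨fun p => ?_, fun z => ?_⟩
      · have e : g₁⁻¹ (p, (0, 0), 0) = ((p, (0, 0), 0) : V4 U) := g₁.injective (by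
          rw [h1p]; exact g₁.apply_symm_apply _)
        rw [LinearEquiv.mul_apply, LinearEquiv.mul_apply, e, (inQ_sig a b).1, h1p]
      · obtain ⟨w, rfl⟩ := g₁.surjective z
        rw [LinearEquiv.mul_apply, LinearEquiv.mul_apply, show g₁⁻¹ (g₁ w) = w from g₁.symm_apply_apply w]
        have e := (inQ_sig (U := U) a b).2 w
        refine Prod.ext ?_ (by rw [h1q, e, h1q])
        rw [hm, hm w, e, h1q]
        have e' : h₁ (w.2.1.1 + (a • LinearMap.id : U →ₗ[F] U) w.2.2, w.2.1.2 + (b • LinearMap.id : U →ₗ[F] U) w.2.2) =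
            h₁ w.2.1 + R w.2.2 := by
          simp only [R, LinearMap.comp_apply, ← map_add]
          rfl
        rw [e']
        simp only [Prod.ext_iff, Prod.fst_add, Prod.snd_add, LinearMap.comp_apply, LinearMap.fst_apply,
          LinearMap.snd_apply]
        constructor <;> abel
    obtain ⟨c₁, c₂, e1, e2⟩ := S.inQ_scalar hno (M.mul_mem (M.mul_mem hg₁M hKM) (M.inv_mem hg₁M)) hQ
    exact ⟨c₁, c₂, fun u => Prod.ext (e1 u) (e2 u)⟩
  obtain ⟨a, c, hac⟩ := hscal 1 0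
  obtain ⟨b, d, hbd⟩ := hscal 0 1
  have hh₁ : ∀ m : U × U, h₁ m = (a • m.1 + b • m.2, c • m.1 + d • m.2) := fun m => by
    have e : m = ((1 : F) • m.1, (0 : F) • m.1) + ((0 : F) • m.2, (1 : F) • m.2) := by simp
    conv_lhs => rw [e, map_add, hac, hbd]
    rfl
  have hm' : ∀ m, (g₁ ((0, m, 0) : V4 U)).2.1 = h₁ m := fun m => rfl
  obtain ⟨u, v, huv⟩ : ∃ u v, β u v ≠ 0 := by
    by_contra h
    push Not at h
    obtain ⟨u, hu⟩ := exists_ne (0 : U)
    exact hu (S.nondeg u (h u))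
  have hdet : a * d - b * c = 1 := by
    have h := S.iso g₁ hg₁M ((0, (u, 0), 0) : V4 U) (0, (0, v), 0)
    simp [Om, h1q, hm', hh₁] at h
    refine mul_right_cancel₀ huv ?_
    linear_combination h
  obtain ⟨g₂, hg₂⟩ : ∃ g₂, g₂ = (SpFourOThree.kr (mid a b c d hdet) (LinearEquiv.refl F U))⁻¹ * g₁ := ⟨_, rfl⟩
  have hmM : SpFourOThree.kr (mid a b c d hdet) (LinearEquiv.refl F U) ∈ M := S.krW_mem (mid_iso _ _ _ _ _)
  have hg₂M : g₂ ∈ M := hg₂ ▸ M.mul_mem (M.inv_mem hmM) hg₁M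
  have hg12 : ∀ z, g₁ z = SpFourOThree.kr (mid a b c d hdet) (LinearEquiv.refl F U) (g₂ z) := fun z => by
    rw [hg₂, LinearEquiv.mul_apply]
    exact (LinearEquiv.apply_symm_apply _ _).symm
  have hmidz : ∀ z : V4 U, SpFourOThree.kr (mid a b c d hdet) (LinearEquiv.refl F U) z =
      (z.1, (a • z.2.1.1 + b • z.2.1.2, c • z.2.1.1 + d • z.2.1.2), z.2.2) := fun z => by
    simp [kr_apply, mid_apply]
  have hg₂p : ∀ p, g₂ (p, (0, 0), 0) = (p, (0, 0), 0) :=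
    fun p => (SpFourOThree.kr (mid a b c d hdet) (LinearEquiv.refl F U)).injective (by rw [← hg12, h1p, hmidz]; simp)
  let R : U →ₗ[F] U × U := (LinearMap.fst F (U × U) U) ∘ₗ (LinearMap.snd F U _) ∘ₗ g₂.toLinearMap ∘ₗ
    (LinearMap.inr F U _) ∘ₗ (LinearMap.inr F (U × U) U)
  have hg₂q : ∀ z, (g₂ z).2.2 = z.2.2 := fun z => by
    have := congrArg (fun w : V4 U => w.2.2) (hg12 z)
    simp only [hmidz, h1q] at this
    exact this.symm
  have hg₂m : ∀ m, (g₂ (0, m, 0)).2.1 = m := fun m => by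
    have h := congrArg (fun w : V4 U => w.2.1) (hg12 (0, m, 0))
    simp only [hmidz, hm', hh₁, Prod.mk.injEq] at h
    have e1 := congrArg (d • ·) h.1
    have e2 := congrArg (b • ·) h.2
    have e3 := congrArg (c • ·) h.1
    have e4 := congrArg (a • ·) h.2
    simp only [smul_add, smul_smul] at e1 e2 e3 e4
    refine Prod.ext ?_ ?_
    · have := congrArg₂ (· - ·) e1 e2
      rw [← one_smul F (g₂ (0, m, 0)).2.1.1, ← one_smul F m.1, ← hdet]
      rw [← sub_eq_zero] at this ⊢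
      linear_combination (norm := module) -this
    · have := congrArg₂ (· - ·) e4 e3
      rw [← one_smul F (g₂ (0, m, 0)).2.1.2, ← one_smul F m.2, ← hdet]
      rw [← sub_eq_zero] at this ⊢
      linear_combination (norm := module) -this
  have hQ : InQ g₂ ((LinearMap.fst F U U) ∘ₗ R) ((LinearMap.snd F U U) ∘ₗ R) := by
    refine ⟨hg₂p, fun z => Prod.ext ?_ (hg₂q z)⟩
    conv_lhs => rw [mk_split z, map_add, map_add, hg₂p]
    simp [R, hg₂m]
    exact Prod.ext (by simp; rfl) (by simp; rfl)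
  have h := ((isKr_kr σ D).mul ((isKr_kr (mid a b c d hdet) (LinearEquiv.refl F U)).mul
    (S.inQ_kr hno hg₂M hQ)))
  rwa [hg₂, mul_inv_cancel_left, hg₁, mul_inv_cancel_left] at h

end Setup

end Cfsg.Agent.Lib.SpFourOThree
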